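import Groth.Agent.NefCurve.Euler
import Groth.Agent.CurveDefAmple.Basic
import Groth.Agent.H23.PicInv
import Groth.Agent.Lib.CurveRR
import Groth.Agent.Lib.CurveSpecial

/-! Nef invertible modules on a curve with `H¹(O) = 0` are nonspecial and globally generated. -/

noncomputable section

set_option linter.style.haveILetI false
set_option linter.unusedSectionVars false
set_option backward.isDefEq.respectTransparency false
set_option backward.isDefEq.respectTransparency.types false

universe u

open CategoryTheory CategoryTheory.Limits AlgebraicGeometry TopologicalSpace Opposite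
open Groth.Agent.PnCoh.Finite (mapLin)

namespace Groth.Agent.NefCurve

open Groth.Agent

variable (k : Type u) [Field k] {X : Scheme.{u}} [X.Over (Spec (CommRingCat.of k))]
  [IsProper (X ↘ Spec (CommRingCat.of k))]

include k in
/-- First cohomology passes to quotients. -/
theorem subsingleton_h1_of_epi (hdim : topologicalKrullDim X ≤ 1) {M N : X.Modules} (hM : Coh.IsQCoh M)
    (hN : Coh.IsQCoh N) (q : M ⟶ N) [Epi q] (h : Subsingleton (Coh.HH X M 1)) :
    Subsingleton (Coh.HH X N 1) := by
  haveI := DefAmple.subsingleton_HH_two k hdim (QCoh.isQCoh_kernel hM hN q) one_lt_two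
  refine subsingleton_of_forall_eq 0 fun y => ?_
  obtain ⟨x, hx⟩ := PnCoh.Finite.exists_of_deltaLin_eq_zero k (CurveSlope.shortExact_kernel_of_epi q) 1
    (x := y) (Subsingleton.elim _ _)
  rw [← hx, Subsingleton.elim x 0, map_zero]

include k in
theorem euler_eq (hdim : topologicalKrullDim X ≤ 1) {M : X.Modules} (hM : Coh.IsQCoh M) :
    Curv2.euler k X M = (Module.finrank k (Coh.HH X M 0) : ℤ) - Module.finrank k (Coh.HH X M 1) := by
  rw [CurveCohLib.euler_eq_sum (k := k) (N := 2) fun i hi => DefAmple.subsingleton_HH_two k hdim hM hi]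
  simp [Finset.sum_range_succ, sub_eq_add_neg]

/-- Sections of `Q` detect maps out of `Q`. -/
def Gen (Q : X.Modules) : Prop :=
  ∀ (N : X.Modules) (g : Q ⟶ N), (∀ s : Coh.structureModule X ⟶ Q, s ≫ g = 0) → g = 0

omit [X.Over (Spec (CommRingCat.of k))] [IsProper (X ↘ Spec (CommRingCat.of k))] in
theorem isGloballyGenerated_of_gen {Q : X.Modules} (h : Gen Q) : Curv2.IsGloballyGenerated Q := by
  let p : (SheafOfModules.free (Coh.structureModule X ⟶ Q) : X.Modules) ⟶ Q :=
    Sigma.desc fun s : Coh.structureModule X ⟶ Q => s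
  refine ⟨_, p, Preadditive.epi_of_cancel_zero _ fun {N} g hg => h N g fun s => ?_⟩
  have h1 : Sigma.ι (fun _ : (Coh.structureModule X ⟶ Q) => Coh.structureModule X) s ≫ p = s :=
    Sigma.ι_desc _ _
  calc s ≫ g = (Sigma.ι (fun _ : (Coh.structureModule X ⟶ Q) => Coh.structureModule X) s ≫ p) ≫ g := by rw [h1]
    _ = 0 := (Category.assoc _ _ _).trans ((congrArg _ hg).trans comp_zero)

include k in
theorem main_quotient (hdim : topologicalKrullDim X ≤ 1)
    (h1 : Subsingleton (Coh.HH X (Coh.structureModule X) 1))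
    {L : X.Modules} (hL : PicF.IsInvertible L) (hnef : IsNef k L) (n : ℕ) :
    ∀ (Q : X.Modules) (q : L ⟶ Q) [Epi q], Coh.IsCoh Q → Module.finrank k (Coh.HH X Q 0) ≤ n →
      Subsingleton (Coh.HH X Q 1) ∧ Gen Q := by
  haveI := CurveCohLib.isNoetherian_of_proper (k := k) (X := X)
  have hzero : ∀ Q : X.Modules, IsZero Q → Subsingleton (Coh.HH X Q 1) ∧ Gen Q := fun Q hz =>
    ⟨Euler.subsingleton_HH_of_isZero hz 1, fun N g _ => hz.eq_of_src _ _⟩
  have hpos : ∀ (Q : X.Modules) (q : L ⟶ Q) [Epi q], Coh.IsCoh Q → ¬ IsZero Q →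
      0 < Module.finrank k (Coh.HH X Q 0) := by
    intro Q q _ hQ hne
    obtain ⟨D, hD, ⟨e⟩⟩ := H23.PicInv.exists_inverse hL
    have hDf : FlatMod.IsFinLocFree D := fun y =>
      let ⟨W, hy, he⟩ := InvEnd.isFinLocFreeOfRank_one hD y; ⟨W, 1, hy, he⟩
    let P := (DCoh.tensorBi.obj D).obj Q
    have hP : Coh.IsCoh P := CurveTensor.isCoh_tensor hDf hQ
    haveI : Epi ((DCoh.tensorBi.obj D).map q) :=
      (CurveTensor.shortExact_tensor hDf _ _ _ (CurveSlope.shortExact_kernel_of_epi q)).epi_g
    let r : Coh.structureModule X ⟶ P :=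
      (CurveTensor.commIso D L ≪≫ e).inv ≫ (DCoh.tensorBi.obj D).map q
    have hP1 := subsingleton_h1_of_epi k hdim QCoh.isCoh_structureModule'.1 hP.1 r h1
    have hback : (DCoh.tensorBi.obj L).obj P ≅ Q := (CurveRR.cancelIso e).app Q
    have hr : r ≠ 0 := fun h0 => hne (by
      have hz : IsZero P := by rw [IsZero.iff_id_eq_zero, ← cancel_epi r, h0]; simp
      exact (Functor.map_isZero (DCoh.tensorBi.obj L) hz).of_iso hback.symm)
    haveI := CurveCohLib.finite_HH (k := k) hP 0
    have h0P : 0 < Module.finrank k (Coh.HH X P 0) := by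
      rw [Module.finrank_pos_iff_exists_ne_zero]
      refine ⟨(Sheaf.H.equiv₀ (Coh.toAb P) isTerminalTop).symm (r.app ⊤ (H23.Frame.one ⊤)), fun h0 => hr ?_⟩
      refine CurveRR.hom_ext_one ?_
      refine (AddEquiv.apply_symm_apply (Sheaf.H.equiv₀ (Coh.toAb P) isTerminalTop) _).symm.trans ?_
      rw [h0]
      exact map_zero _
    have hle := euler_le k hdim hL hnef hP
    rw [CurveCohLib.euler_congr (k := k) hback, euler_eq k hdim hP.1, euler_eq k hdim hQ.1,
      Module.finrank_zero_of_subsingleton (M := Coh.HH X P 1)] at hle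
    omega
  induction n with
  | zero =>
    intro Q q _ hQ hn
    refine hzero Q (by_contra fun hne => ?_)
    have := hpos Q q hQ hne
    omega
  | succ n ih =>
    intro Q q _ hQ hn
    by_cases hz : IsZero Q
    · exact hzero Q hz
    obtain ⟨s, hs⟩ := CurveRR.exists_hom_ne_zero (P := Q) k (hpos Q q hQ hz).ne'
    have hOX : Coh.IsCoh (Coh.structureModule X) := QCoh.isCoh_structureModule'
    have hC : Coh.IsCoh (cokernel s) := QCoh.isCoh_cokernel hOX.1 hQ s
    have hexact : (ShortComplex.mk (Abelian.image.ι s) (cokernel.π s) (kernel.condition _)).ShortExact :=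
      { exact := ShortComplex.exact_of_f_is_kernel _ (kernelIsKernel _)
        mono_f := inferInstanceAs (Mono (kernel.ι (cokernel.π s)))
        epi_g := inferInstanceAs (Epi (cokernel.π s)) }
    have hI : Coh.IsQCoh (Abelian.image s) := QCoh.isQCoh_kernel hQ.1 hC.1 _
    haveI hM1 : Subsingleton (Coh.HH X (Abelian.image s) 1) :=
      subsingleton_h1_of_epi k hdim hOX.1 hI (Abelian.factorThruImage s) h1
    haveI := CurveCohLib.finite_HH (k := k) hQ 0
    let t : Coh.HH X Q 0 := (Sheaf.H.equiv₀ (Coh.toAb Q) isTerminalTop).symm (s.app ⊤ (H23.Frame.one ⊤))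
    have ht : t ≠ 0 := fun h0 => hs (CurveRR.hom_ext_one (by
      refine (AddEquiv.apply_symm_apply (Sheaf.H.equiv₀ (Coh.toAb Q) isTerminalTop) _).symm.trans ?_
      show (Sheaf.H.equiv₀ (Coh.toAb Q) isTerminalTop) t = _
      rw [h0]
      exact map_zero _))
    have htk : mapLin k (cokernel.π s) 0 t = 0 := by
      refine (Sheaf.H.equiv₀ (Coh.toAb (cokernel s)) isTerminalTop).injective ?_
      refine (Sheaf.H.equiv₀_naturality isTerminalTop ((QCoh.toAbFunctor X).map (cokernel.π s)) t).symm.trans ?_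
      refine (congrArg ((cokernel.π s).app ⊤) (AddEquiv.apply_symm_apply _ _)).trans ?_
      rw [map_zero]
      exact congr(($(cokernel.condition s)).app ⊤ (H23.Frame.one ⊤))
    have hsurj : Function.Surjective (mapLin k (cokernel.π s) 0) := fun y =>
      PnCoh.Finite.exists_of_deltaLin_eq_zero k hexact 0 (Subsingleton.elim _ _)
    have hlt : Module.finrank k (Coh.HH X (cokernel s) 0) < Module.finrank k (Coh.HH X Q 0) := by
      have h2 := LinearMap.finrank_range_add_finrank_ker (mapLin k (cokernel.π s) 0)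
      rw [LinearMap.range_eq_top.2 hsurj, finrank_top] at h2
      have h3 : 0 < Module.finrank k (LinearMap.ker (mapLin k (cokernel.π s) 0)) :=
        Module.finrank_pos_iff_exists_ne_zero.2 ⟨⟨t, htk⟩, fun h0 => ht (congrArg Subtype.val h0)⟩
      omega
    obtain ⟨hC1, hCg⟩ := ih (cokernel s) (q ≫ cokernel.π s) hC (by omega)
    refine ⟨subsingleton_of_forall_eq 0 fun y => ?_, fun N g hg => ?_⟩
    · obtain ⟨x, hx⟩ := (CurveCohLib.ker_mapLin_g k hexact 1).le
        (LinearMap.mem_ker.2 (Subsingleton.elim (mapLin k (cokernel.π s) 1 y) 0))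
      rw [← hx, Subsingleton.elim x 0, map_zero]
    · have h0 : cokernel.desc s g (hg s) = 0 := hCg N _ fun φ => by
        obtain ⟨ψ, hψ⟩ := CurveRR.exists_lift_of_HH_one hexact hM1 φ
        rw [← hψ]
        show (ψ ≫ cokernel.π s) ≫ _ = 0
        rw [Category.assoc, cokernel.π_desc, hg]
      rw [← cokernel.π_desc s g (hg s), h0, comp_zero]

include k in
/-- Vanishing and global generation. -/
theorem main (hdim : topologicalKrullDim X ≤ 1)
    (h1 : Subsingleton (Coh.HH X (Coh.structureModule X) 1))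
    {L : X.Modules} (hL : PicF.IsInvertible L) (hnef : IsNef k L) :
    Subsingleton (Coh.HH X L 1) ∧ Curv2.IsGloballyGenerated L := by
  haveI := CurveCohLib.isNoetherian_of_proper (k := k) (X := X)
  obtain ⟨h, hg⟩ := main_quotient k hdim h1 hL hnef _ L (𝟙 L) (CurveDeg.isCoh_of_isInvertible hL) le_rfl
  exact ⟨h, isGloballyGenerated_of_gen hg⟩

end Groth.Agent.NefCurve
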