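import Groth.Agent.Lib.AmpleEmbed

/-! A closed immersion into projective space from sections whose ratios generate the affine loci. -/

noncomputable section

set_option linter.style.haveILetI false
set_option backward.isDefEq.respectTransparency false
set_option backward.isDefEq.respectTransparency.types false
set_option maxHeartbeats 800000

universe u

open CategoryTheory CategoryTheory.Limits AlgebraicGeometry TopologicalSpace HomogeneousLocalization

namespace Groth.Agent.NefCurve.Embed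

open Groth.Agent Groth.Agent.InvX Groth.Agent.H23

theorem exists_closedImmersion_fixed {R : Type u} [CommRing R] {X : Scheme.{u}}
    (f : X ⟶ Spec (CommRingCat.of R)) [IsProper f] {L : X.Modules} (hL : PicF.IsInvertible L)
    (n : ℕ) (s : Fin (n + 1) → Γ(L, ⊤)) (good : Fin (n + 1) → Prop) (haff : ∀ i, good i → IsAffineOpen (TrivBasic.locus (s i)))
    (hcov : ∀ x, ∃ i, good i ∧ x ∈ TrivBasic.locus (s i))
    (hgen : ∀ i, good i → ∀ S : Subring Γ(X, TrivBasic.locus (s i)),
      (∀ c : R, (f.appLE ⊤ (TrivBasic.locus (s i)) le_top).hom ((Scheme.ΓSpecIso (CommRingCat.of R)).inv c) ∈ S) →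
      (∀ (l : Fin (n + 1)) (b : Γ(X, TrivBasic.locus (s i))),
        AModX.res L le_top (s l) = b • AModX.res L (le_top : TrivBasic.locus (s i) ≤ ⊤) (s i) → b ∈ S) →
      S = ⊤) :
    ∃ i : X ⟶ CohB1.ProjSpace n R, IsClosedImmersion i ∧ i ≫ CohB1.ProjSpace.toSpec n R = f ∧
      Nonempty ((Scheme.Modules.pullback i).obj (Twist.twistProjSpace n R 1) ≅ L) := by
  classical
  haveI : X.IsSeparated := ⟨by
    rw [← Limits.terminal.comp_from f]
    infer_instance⟩
  let U : Fin (n + 1) → X.Opens := fun i => TrivBasic.locus (s i)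
  have hs : ProjUP.GeneratedBy L s := ProjUPX.generatedBy_of_frames _ fun x => by
    obtain ⟨i, -, hi⟩ := hcov x
    exact ⟨i, U i, hi, TrivBasic.isFrame_res_of_le_locus le_rfl⟩
  obtain ⟨r, hr, τ, hτ⟩ := S3572.result n f L hL s hs
  refine ⟨r, ?_, hr, ⟨τ⟩⟩
  haveI : IsProper (CohB1.ProjSpace.toSpec n R) := PnCoh.Chow.isProper_toSpec n R
  haveI : IsProper r := by
    haveI : IsProper (r ≫ CohB1.ProjSpace.toSpec n R) := hr ▸ ‹IsProper f›
    exact IsProper.of_comp r (CohB1.ProjSpace.toSpec n R)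
  let D : Fin (n + 1) → (CohB1.ProjSpace n R).Opens := fun i =>
    Proj.basicOpen (CohB1.polyGrading n R) (MvPolynomial.X i)
  have hD : ∀ i, IsAffineOpen (D i) := fun i => Proj.isAffineOpen_basicOpen _ _ (ProjPt.X_mem _) one_pos
  have hpre : ∀ i, r ⁻¹ᵁ D i = U i := fun i => AmpleEmbed.preimage_chart r τ i (hτ i)
  have hloc : ∀ i, good i → IsClosedImmersion (r ∣_ D i) := fun i hgood => by
    haveI : IsAffine (D i : Scheme) := hD i
    haveI : IsAffine (r ⁻¹ᵁ D i : Scheme) := by rw [hpre]; exact haff i hgood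
    refine IsClosedImmersion.of_surjective_of_isAffine _ ?_
    have hsurj : Function.Surjective (r.appLE (D i) (U i) (hpre i).ge) := by
      refine RingHom.range_eq_top.1 (hgen i hgood _ (fun c => ?_) fun l b hb => ?_)
      · refine ⟨(CohB1.ProjSpace.toSpec n R).appLE ⊤ (D i) le_top ((Scheme.ΓSpecIso (CommRingCat.of R)).inv c), ?_⟩
        rw [← CommRingCat.comp_apply, Scheme.Hom.appLE_comp_appLE]
        simp only [hr]
        rfl
      · refine ⟨(Proj.awayToSection (CohB1.polyGrading n R) (MvPolynomial.X i)).hom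
          (Away.mk (CohB1.polyGrading n R) (ProjPt.X_mem _) 1 (MvPolynomial.X l)
            (by rw [one_smul]; exact ProjPt.X_mem _)), ?_⟩
        exact AmpleEmbed.ratioOf_eq r τ _ _ (hτ i) (hτ l) (hpre i).ge b hb
    intro z
    rw [morphismRestrict_appTop]
    obtain ⟨y, hy⟩ := hsurj (X.presheaf.map (eqToHom (hpre i).symm).op
      ((r ⁻¹ᵁ D i).topIso.hom z))
    refine ⟨(D i).topIso.inv y, (ConcreteCategory.bijective_of_isIso (r ⁻¹ᵁ D i).topIso.hom).1 ?_⟩
    apply (ConcreteCategory.bijective_of_isIso (X.presheaf.map (eqToHom (hpre i).symm).op)).1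
    rw [← hy]
    simp only [← CommRingCat.comp_apply]
    congr 2
    simp only [Scheme.Hom.appLE, Scheme.Opens.topIso, Category.assoc]
    simp [← Functor.map_comp]
    rw [r.naturality_assoc, ← Functor.map_comp]
    rfl
  let E : (CohB1.ProjSpace n R).Opens :=
    ⟨(Set.range r)ᶜ, r.isClosedMap.isClosed_range.isOpen_compl⟩
  have hE : IsClosedImmersion (r ∣_ E) := by
    haveI : IsEmpty (r ⁻¹ᵁ E : Scheme) := ⟨fun x => x.2 ⟨x.1, rfl⟩⟩
    infer_instance
  refine IsZariskiLocalAtTarget.of_iSup_eq_top (P := @IsClosedImmersion) (fun o : Option {i : Fin (n + 1) // good i} => o.elim E fun i => D i.1) ?_ ?_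
  · refine top_le_iff.1 fun y _ => ?_
    by_cases hy : y ∈ Set.range r
    · obtain ⟨x, rfl⟩ := hy
      obtain ⟨i, hgood, hi⟩ := hcov x
      exact Opens.mem_iSup.2 ⟨some ⟨i, hgood⟩, show x ∈ r ⁻¹ᵁ D i from (hpre i).ge hi⟩
    · exact Opens.mem_iSup.2 ⟨none, hy⟩
  · rintro (_ | i)
    · exact hE
    · exact hloc i.1 i.2

theorem exists_closedImmersion_of_ratios {R : Type u} [CommRing R] {X : Scheme.{u}}
    (f : X ⟶ Spec (CommRingCat.of R)) [IsProper f] {L : X.Modules} (hL : PicF.IsInvertible L)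
    (n : ℕ) (s : Fin (n + 1) → Γ(L, ⊤)) (good : Fin (n + 1) → Prop) (haff : ∀ i, good i → IsAffineOpen (TrivBasic.locus (s i)))
    (hcov : ∀ x, ∃ i, good i ∧ x ∈ TrivBasic.locus (s i))
    (hgen : ∀ i, good i → ∀ S : Subring Γ(X, TrivBasic.locus (s i)),
      (∀ c : R, (f.appLE ⊤ (TrivBasic.locus (s i)) le_top).hom ((Scheme.ΓSpecIso (CommRingCat.of R)).inv c) ∈ S) →
      (∀ (l : Fin (n + 1)) (b : Γ(X, TrivBasic.locus (s i))),
        AModX.res L le_top (s l) = b • AModX.res L (le_top : TrivBasic.locus (s i) ≤ ⊤) (s i) → b ∈ S) →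
      S = ⊤) :
    ∃ (m : ℕ) (i : X ⟶ CohB1.ProjSpace m R), IsClosedImmersion i ∧ i ≫ CohB1.ProjSpace.toSpec m R = f ∧
      Nonempty ((Scheme.Modules.pullback i).obj (Twist.twistProjSpace m R 1) ≅ L) := ⟨n, exists_closedImmersion_fixed f hL n s good haff hcov hgen⟩

end Groth.Agent.NefCurve.Embed
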