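import Groth.Agent.Lib.CurvePsi
import Groth.Agent.Lib.CurveDeg
import Groth.Agent.IntNum.Push
import Groth.Agent.QCoh.DevissageTheta
import Groth.Agent.H23.InvStalk
import Groth.Agent.H23.MaxAbelian
import Groth.Agent.SchTop.ZeroDim
import Groth.Agent.GGAmple.Basic

/-! Nef invertible modules on proper schemes of dimension at most one do not lower Euler characteristics. -/

noncomputable section

set_option linter.style.haveILetI false
set_option linter.unusedSectionVars false
set_option backward.isDefEq.respectTransparency false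
set_option backward.isDefEq.respectTransparency.types false

universe u

open CategoryTheory CategoryTheory.Limits AlgebraicGeometry TopologicalSpace Opposite

namespace Groth.Agent.NefCurve

open Groth.Agent

variable (k : Type u) [Field k] {X : Scheme.{u}} [X.Over (Spec (CommRingCat.of k))]
  [IsProper (X ↘ Spec (CommRingCat.of k))]

/-- Nonnegative degree on every integral curve in `X`. -/
def IsNef (L : X.Modules) : Prop :=
  ∀ J : X.IdealSheafData, IsIntegral J.subscheme → topologicalKrullDim J.subscheme = 1 →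
    0 ≤ @Curv2.deg k _ J.subscheme ⟨J.subschemeι ≫ (X ↘ Spec (CommRingCat.of k))⟩
      ((Scheme.Modules.pullback J.subschemeι).obj L) 1

theorem push_structure_of_isIso {A B : Scheme.{u}} (t : A ⟶ B) [IsIso t] :
    Nonempty ((Coh.push t).obj (Coh.structureModule A) ≅ Coh.structureModule B) :=
  ⟨(Coh.push t).mapIso (Scheme.Modules.restrictUnitIso t).symm ≪≫
    (@asIso _ _ _ _ ((Scheme.Modules.restrictAdjunction t).unit.app (Coh.structureModule B))
      (CurveTensor.isIso_unit_of_isIso t _)).symm⟩

include k in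
theorem deg_nonneg_of_integral {L : X.Modules} (hL : PicF.IsInvertible L) (hnef : IsNef k L)
    {Z : Scheme.{u}} [Z.Over (Spec (CommRingCat.of k))] (i : Z ⟶ X) [IsClosedImmersion i] [IsIntegral Z]
    (hi : i ≫ (X ↘ Spec (CommRingCat.of k)) = Z ↘ Spec (CommRingCat.of k)) (hZ : topologicalKrullDim Z = 1) :
    0 ≤ Curv2.deg k Z ((Scheme.Modules.pullback i).obj L) 1 := by
  haveI := CurveCohLib.isNoetherian_of_proper (k := k) (X := X)
  let t := i.toImage
  haveI : IsIso t := inferInstance
  letI : i.image.Over (Spec (CommRingCat.of k)) := ⟨i.imageι ≫ (X ↘ Spec (CommRingCat.of k))⟩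
  haveI : IsIntegral i.image := H23.MaxAbelian.isIntegral_of_iso (asIso t).symm
  have hd : topologicalKrullDim i.image = 1 :=
    (IsHomeomorph.topologicalKrullDim_eq _ (Scheme.Hom.homeomorph t).isHomeomorph).symm.trans hZ
  have hn : 0 ≤ Curv2.deg k i.image ((Scheme.Modules.pullback i.imageι).obj L) 1 := hnef i.ker inferInstance hd
  have hq : Coh.IsQCoh ((Scheme.Modules.pullback i.imageι).obj L) :=
    QCoh.isQCoh_pullback _ (CurveDeg.isCoh_of_isInvertible hL).1
  have hci : IsClosedImmersion t := inferInstance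
  have e : (Scheme.Modules.pullback t).obj ((Scheme.Modules.pullback i.imageι).obj L) ≅
      (Scheme.Modules.pullback i).obj L :=
    (Scheme.Modules.pullbackComp t i.imageι).app L ≪≫
      (Scheme.Modules.pullbackCongr i.toImage_imageι).app L
  have h1 := IntNum.deg_pullback_closed k t (show t ≫ (i.imageι ≫ _) = Z ↘ _ by
    rw [← Category.assoc, Scheme.Hom.toImage_imageι, hi]) hq 1
  obtain ⟨a⟩ := push_structure_of_isIso t
  unfold Curv2.deg at h1
  rw [CurveCohLib.euler_congr (k := k) e, CurveCohLib.euler_congr (k := k) a, CurveCohLib.euler_congr (k := k)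
    (PicGrp.tensorModIso a (Iso.refl _) ≪≫ CurveTensor.structureTensorIso _)] at h1
  unfold Curv2.deg at hn ⊢
  linarith

include k in
/-- The Euler characteristic does not drop on tensoring with a nef invertible module. -/
theorem euler_le (hdim : topologicalKrullDim X ≤ 1) {L : X.Modules} (hL : PicF.IsInvertible L)
    (hnef : IsNef k L) {F : X.Modules} (hF : Coh.IsCoh F) :
    Curv2.euler k X F ≤ Curv2.euler k X ((DCoh.tensorBi.obj L).obj F) := by
  haveI := CurveCohLib.isNoetherian_of_proper (k := k) (X := X)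
  let ψ := CurvePsi.eulerPsi k (InvEnd.isFinLocFreeOfRank_one hL)
  suffices h : 0 ≤ ψ.toFun F by
    have h' : 0 ≤ Curv2.euler k X ((DCoh.tensorBi.obj L).obj F) - (1 : ℕ) * Curv2.euler k X F := h
    push_cast at h'
    linarith
  refine QCoh.devissage_ideals (fun M => 0 ≤ ψ.toFun M) ?_ ?_ Set.univ ?_ ?_ hF (Set.subset_univ _)
  · rintro M N ⟨e⟩ h
    rwa [← ψ.congr e]
  · intro M h
    rw [ψ.eq_zero_of_isZero (QCoh.isCoh_isZero h hF) h]
  · intro S hS h₁ h₂ h₃ p₁ p₃
    rw [ψ.add S.f S.g S.zero hS h₁ h₂ h₃]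
    omega
  · intro ξ _ _ Z i _ _ hr I ι hι hI hI0
    haveI := hι
    letI : Z.Over (Spec (CommRingCat.of k)) := ⟨i ≫ (X ↘ Spec (CommRingCat.of k))⟩
    haveI : IsProper (Z ↘ Spec (CommRingCat.of k)) :=
      inferInstanceAs (IsProper (i ≫ (X ↘ Spec (CommRingCat.of k))))
    haveI := CurveCohLib.isNoetherian_of_proper (k := k) (X := Z)
    have hIc : Coh.IsCoh I := QCoh.isCoh_of_mono ι QCoh.isCoh_structureModule' hI
    have hP : Coh.IsCoh ((Coh.push i).obj I) := QCoh.isCoh_pushforward_finite i hIc
    by_cases hc : IsClosed ({ξ} : Set X)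
    · refine le_of_eq (ψ.zero hP fun x hx => ?_).symm
      have := QCoh.support_push_subset i hI hx
      rw [hr, hc.closure_eq, Set.mem_singleton_iff] at this
      exact this ▸ hc
    have hdZ : topologicalKrullDim Z ≤ 1 :=
      i.isClosedEmbedding.isInducing.topologicalKrullDim_le.trans hdim
    obtain ⟨z, hz⟩ : ξ ∈ Set.range i := hr.ge (subset_closure rfl)
    have hnz : ¬ IsClosed ({z} : Set Z) := fun h => hc (by
      rw [← hz, ← Set.image_singleton]; exact i.isClosedEmbedding.isClosedMap _ h)
    have hd1 : topologicalKrullDim Z = 1 := dim_eq_one hdZ hnz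
    have hinv := PicClLib.isInvertible_pullback i hL
    have h0 := deg_nonneg_of_integral k hL hnef i rfl hd1
    have ht := CurveTensor.euler_tensor k hd1 (InvEnd.isFinLocFreeOfRank_one hinv) hIc
    obtain ⟨p⟩ := IntNum.push_tensor i I L
    have htI : Coh.IsCoh ((DCoh.tensorBi.obj ((Scheme.Modules.pullback i).obj L)).obj I) :=
      CurveTensor.isCoh_tensor (fun y => let ⟨W, hy, he⟩ := InvEnd.isFinLocFreeOfRank_one hinv y; ⟨W, 1, hy, he⟩) hIc
    have e1 : Curv2.euler k X ((DCoh.tensorBi.obj L).obj ((Coh.push i).obj I)) =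
        Curv2.euler k Z ((DCoh.tensorBi.obj ((Scheme.Modules.pullback i).obj L)).obj I) := by
      refine (CurveCohLib.euler_congr (k := k) ((CurveTensor.commIso L ((Coh.push i).obj I)) ≪≫ p.symm)).trans ?_
      refine (CurveCohLib.euler_congr (k := k) ((Coh.push i).mapIso (CurveTensor.commIso I _))).trans ?_
      exact IntNum.euler_push k i rfl htI.1
    have e2 := IntNum.euler_push k i rfl hI
    show 0 ≤ Curv2.euler k X ((DCoh.tensorBi.obj L).obj ((Coh.push i).obj I)) - (1 : ℕ) * Curv2.euler k X ((Coh.push i).obj I)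
    rw [e1, e2, ht]
    push_cast
    nlinarith [Int.natCast_nonneg (CurveBundle.rk I)]
where
  dim_eq_one {Z : Scheme.{u}} (hdZ : topologicalKrullDim Z ≤ 1) {z : Z} (hnz : ¬ IsClosed ({z} : Set Z)) :
      topologicalKrullDim Z = 1 := by
    refine le_antisymm hdZ ?_
    by_contra h
    exact hnz (SchTop.isClosed_singleton_of_dim_le_zero (GGAmple.withBot_le_zero _ (not_le.1 h)) z)

end Groth.Agent.NefCurve
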