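import Groth.Agent.FibVanish.Basic
import Groth.Agent.NefCurve.Regular
import Groth.Agent.AmpleVan.ThickPush
import Groth.Agent.AmpleVan.AdicBase
import Groth.Agent.CurveBC.Coh

/-! Nef invertible modules over an affine Noetherian base: reduction to the closed fibres. -/

noncomputable section

set_option linter.style.haveILetI false
set_option linter.unusedSectionVars false
set_option backward.isDefEq.respectTransparency false
set_option backward.isDefEq.respectTransparency.types false

universe u

open CategoryTheory CategoryTheory.Limits AlgebraicGeometry TopologicalSpace Opposite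
open Groth.Agent.PnCoh.Finite (mapLin)

attribute [local instance] Groth.Agent.QCoh.hasFiniteBiproducts

namespace Groth.Agent.NefCurve.Relative

open Groth.Agent

variable (A : Type u) [CommRing A] [IsNoetherianRing A] {X : Scheme.{u}} [X.Over (Spec (CommRingCat.of A))]
  [IsProper (X ↘ Spec (CommRingCat.of A))]

/-- Nonnegative degree on the integral curves of the fibres. -/
def RelNef (L : X.Modules) : Prop :=
  ∀ (K : Type u) [Field K] (i : A →+* K) (J : X.IdealSheafData)
    (t : J.subscheme ⟶ Spec (CommRingCat.of K)),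
    AlgebraicGeometry.IsIntegral J.subscheme → topologicalKrullDim ↥J.subscheme = 1 →
    t ≫ Spec.map (CommRingCat.ofHom i) = J.subschemeι ≫ (X ↘ Spec (CommRingCat.of A)) →
    0 ≤ @Curv2.deg K _ J.subscheme ⟨t⟩ ((Scheme.Modules.pullback J.subschemeι).obj L) 1

/-- All closed fibres have dimension at most one. -/
def FibLe : Prop :=
  ∀ y : ↥(Spec (CommRingCat.of A)), IsClosed ({y} : Set ↥(Spec (CommRingCat.of A))) →
      topologicalKrullDim ↥((X ↘ Spec (CommRingCat.of A)) ⁻¹' {y}) ≤ (1 : ℕ)

variable {A}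

theorem h1_of_epi (hfib : FibLe A (X := X)) {M N : X.Modules} (hM : Coh.IsCoh M) (hN : Coh.IsCoh N) (g : M ⟶ N)
    [Epi g] (h : Subsingleton (Coh.HH X M 1)) : Subsingleton (Coh.HH X N 1) := by
  haveI := FibVanish.isNoetherian_of_proper A (X := X)
  exact PnCoh.Finite.subsingleton_HH_X₃ (CurveSlope.shortExact_kernel_of_epi g) 1 h
    (FibVanish.subsingleton_HH_of_closedFibre A hfib (QCoh.isCoh_kernel hM hN g) one_lt_two)

theorem h1_surjective_of_epi (hfib : FibLe A (X := X)) {M N : X.Modules} (hM : Coh.IsCoh M) (hN : Coh.IsCoh N)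
    (g : M ⟶ N) [Epi g] : Function.Surjective (mapLin A g 1) := fun y => by
  haveI := FibVanish.isNoetherian_of_proper A (X := X)
  haveI := FibVanish.subsingleton_HH_of_closedFibre A hfib (QCoh.isCoh_kernel hM hN g) one_lt_two
  exact PnCoh.Finite.exists_of_deltaLin_eq_zero A (CurveSlope.shortExact_kernel_of_epi g) 1
    (x := y) (Subsingleton.elim _ _)

theorem biproduct_class {I : Type u} [Fintype I] (T : I → X.Modules) (n : ℕ) (y : Coh.HH X (⨁ T) n) :
    y = ∑ j, mapLin A (biproduct.ι T j) n (mapLin A (biproduct.π T j) n y) := by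
  classical
  have hadd : ∀ {P Q : X.Modules} (f g : P ⟶ Q) (x : Coh.HH X P n),
      mapLin A (f + g) n x = mapLin A f n x + mapLin A g n x := fun f g x => by
    show Sheaf.H.map ((QCoh.toAbFunctor X).map (f + g)) n x = _
    rw [Functor.map_add, Sheaf.H.map_add_apply]
    rfl
  have hzero : ∀ {P Q : X.Modules} (x : Coh.HH X P n), mapLin A (0 : P ⟶ Q) n x = 0 := fun {P Q} x => by
    have h := hadd (0 : P ⟶ Q) 0 x
    rwa [add_zero, left_eq_add] at h
  have hsum : ∀ {P Q : X.Modules} (s : Finset I) (f : I → (P ⟶ Q)) (x : Coh.HH X P n),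
      mapLin A (∑ i ∈ s, f i) n x = ∑ i ∈ s, mapLin A (f i) n x := fun s f x => by
    induction s using Finset.induction_on with
    | empty => rw [Finset.sum_empty, Finset.sum_empty]; exact hzero x
    | insert a s ha ih => rw [Finset.sum_insert ha, Finset.sum_insert ha, hadd, ih]
  conv_lhs => rw [show y = mapLin A (𝟙 (⨁ T)) n y from
    (by show y = Sheaf.H.map ((QCoh.toAbFunctor X).map (𝟙 _)) n y
        rw [CategoryTheory.Functor.map_id, Sheaf.H.map_id_apply]), ← QCoh.biproduct_total' T, hsum]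
  exact Finset.sum_congr rfl fun j _ => (FFun.mapLin_comp _ _ n y).symm

section Fibre

variable (m : Ideal A) [hm : m.IsMaximal]

/-- The fibre over a closed point. -/
theorem fibre_main (hfib : FibLe A (X := X)) (h1 : Subsingleton (Coh.HH X (Coh.structureModule X) 1))
    {L : X.Modules} (hL : PicF.IsInvertible L) (hnef : RelNef A L) :
    Subsingleton (Coh.HH X (FFun.modJ m L) 1) ∧
      ∀ (P : X.Modules) (h : FFun.modJ m L ⟶ P),
        (∀ s : Coh.structureModule X ⟶ FFun.modJ m L, s ≫ h = 0) → h = 0 := by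
  haveI := FibVanish.isNoetherian_of_proper A (X := X)
  letI : Field (A ⧸ m) := Ideal.Quotient.field m
  let π := X ↘ Spec (CommRingCat.of A)
  let c := Spec.map (CommRingCat.ofHom (Ideal.Quotient.mk m))
  haveI : IsClosedImmersion c := IsClosedImmersion.spec_of_surjective _ Ideal.Quotient.mk_surjective
  let Z := pullback π c
  let j : Z ⟶ X := pullback.fst π c
  let q : Z ⟶ Spec (CommRingCat.of (A ⧸ m)) := pullback.snd π c
  haveI : IsClosedImmersion j := MorphismProperty.pullback_fst π c inferInstance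
  letI : Z.Over (Spec (CommRingCat.of (A ⧸ m))) := ⟨q⟩
  haveI : IsProper (Z ↘ Spec (CommRingCat.of (A ⧸ m))) := inferInstanceAs (IsProper (pullback.snd π c))
  have sq : IsPullback j q π c := IsPullback.of_hasPullback π c
  haveI := CurveCohLib.isNoetherian_of_proper (k := A ⧸ m) (X := Z)
  let y : ↥(Spec (CommRingCat.of A)) := ⟨m, hm.isPrime⟩
  have hy : IsClosed ({y} : Set ↥(Spec (CommRingCat.of A))) := (PrimeSpectrum.isClosed_singleton_iff_isMaximal y).2 hm
  have hjy : ∀ z : Z, π (j z) = y := fun z => by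
    rw [← Scheme.Hom.comp_apply, sq.w, Scheme.Hom.comp_apply]
    refine PrimeSpectrum.ext (hm.eq_of_le (Ideal.IsPrime.ne_top') ?_).symm
    intro a ha
    show Ideal.Quotient.mk m a ∈ (q z).asIdeal
    rw [Ideal.Quotient.eq_zero_iff_mem.2 ha]
    exact Submodule.zero_mem _
  have hZdim : topologicalKrullDim Z ≤ 1 := by
    let r : Z → ↥(π ⁻¹' {y}) := fun z => ⟨j z, hjy z⟩
    have hr : Topology.IsInducing r :=
      Topology.IsInducing.subtypeVal.of_comp_iff.1 j.isClosedEmbedding.isInducing
    exact hr.topologicalKrullDim_le.trans (hfib y hy)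
  have hO : Coh.IsCoh (Coh.structureModule X) := QCoh.isCoh_structureModule'
  have hLc : Coh.IsCoh L := CurveDeg.isCoh_of_isInvertible hL
  -- the structure sheaf of the fibre
  obtain ⟨h0, hiso0⟩ := AmpleVan.unit_desc_iso sq hO.1
  haveI := hiso0
  let aO : FFun.modJ m (Coh.structureModule X) ≅ (Coh.push j).obj (Coh.structureModule Z) :=
    @asIso _ _ _ _ (cokernel.desc _ _ h0) hiso0 ≪≫ (Coh.push j).mapIso (CurveBC.unitIso j)
  have hZ1 : Subsingleton (Coh.HH Z (Coh.structureModule Z) 1) := by
    have h := h1_of_epi hfib hO (FFun.isCoh_modJ m hO) (FFun.modJπ m _) h1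
    haveI := QCoh.subsingleton_HH_of_iso aO 1 h
    obtain ⟨E⟩ := QCoh.HH_push_of_isAffineHom j (PnCoh.isQCoh_structureModule Z) 1
    exact E.toEquiv.subsingleton
  -- the restriction of `L`
  let L' := (Scheme.Modules.pullback j).obj L
  have hL' : PicF.IsInvertible L' := PicLoc.isInvertible_pullback _ hL
  have hnef' : IsNef (A ⧸ m) L' := fun J hJ hJd => by
    haveI := hJ
    let i := J.subschemeι ≫ j
    let t := i.toImage
    haveI : IsIso t := inferInstance
    haveI : IsIntegral i.image := H23.MaxAbelian.isIntegral_of_iso (asIso t).symm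
    have hd : topologicalKrullDim i.image = 1 :=
      (IsHomeomorph.topologicalKrullDim_eq _ (Scheme.Hom.homeomorph t).isHomeomorph).symm.trans hJd
    let tk : i.image ⟶ Spec (CommRingCat.of (A ⧸ m)) := inv t ≫ J.subschemeι ≫ q
    have hn := hnef (A ⧸ m) (Ideal.Quotient.mk m) i.ker tk inferInstance hd (by
      show tk ≫ _ = i.imageι ≫ π
      rw [← cancel_epi t, i.toImage_imageι_assoc]
      simp only [tk, i, c, Category.assoc, IsIso.hom_inv_id_assoc]
      rw [sq.w])
    letI : J.subscheme.Over (Spec (CommRingCat.of (A ⧸ m))) := ⟨J.subschemeι ≫ q⟩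
    letI : i.image.Over (Spec (CommRingCat.of (A ⧸ m))) := ⟨tk⟩
    have hq : Coh.IsQCoh ((Scheme.Modules.pullback i.imageι).obj L) := QCoh.isQCoh_pullback _ hLc.1
    have e : (Scheme.Modules.pullback t).obj ((Scheme.Modules.pullback i.imageι).obj L) ≅
        (Scheme.Modules.pullback J.subschemeι).obj L' :=
      (Scheme.Modules.pullbackComp t i.imageι).app L ≪≫
        (Scheme.Modules.pullbackCongr i.toImage_imageι).app L ≪≫
          ((Scheme.Modules.pullbackComp J.subschemeι j).app L).symm
    have h1' := IntNum.deg_pullback_closed (A ⧸ m) t (show t ≫ tk = J.subschemeι ≫ q from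
      IsIso.hom_inv_id_assoc t (J.subschemeι ≫ q)) hq 1
    obtain ⟨a⟩ := push_structure_of_isIso t
    unfold Curv2.deg at h1'
    rw [CurveCohLib.euler_congr (k := A ⧸ m) e, CurveCohLib.euler_congr (k := A ⧸ m) a,
      CurveCohLib.euler_congr (k := A ⧸ m)
      (PicGrp.tensorModIso a (Iso.refl _) ≪≫ CurveTensor.structureTensorIso _)] at h1'
    show 0 ≤ Curv2.deg (A ⧸ m) J.subscheme ((Scheme.Modules.pullback J.subschemeι).obj L') 1
    have hn' : 0 ≤ Curv2.deg (A ⧸ m) i.image ((Scheme.Modules.pullback i.imageι).obj L) 1 := hn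
    unfold Curv2.deg at hn' ⊢
    linarith
  obtain ⟨hL'1, hL'g⟩ := NefCurve.main (A ⧸ m) hZdim hZ1 hL' hnef'
  obtain ⟨hL, hisoL⟩ := AmpleVan.unit_desc_iso sq hLc.1
  haveI := hisoL
  let aL : FFun.modJ m L ≅ (Coh.push j).obj L' := @asIso _ _ _ _ (cokernel.desc _ _ hL) hisoL
  have hL'c : Coh.IsCoh L' := CurveDeg.isCoh_of_isInvertible hL'
  refine ⟨QCoh.subsingleton_HH_of_iso aL.symm 1 ?_, fun P h hh => ?_⟩
  · obtain ⟨E⟩ := QCoh.HH_push_of_isAffineHom j hL'c.1 1
    exact E.symm.toEquiv.subsingleton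
  obtain ⟨N, p, hp, -⟩ := exists_epi_basis (A ⧸ m) hL'c (gen_of_isGloballyGenerated hL'g)
  haveI := hp
  haveI : Epi ((Coh.push j).map p) :=
    AmpleVan.epi_push j (QCoh.isCoh_biproduct _ fun _ => QCoh.isCoh_structureModule').1 hL'c.1 p
  suffices (Coh.push j).map p ≫ aL.inv ≫ h = 0 by
    have h' : aL.inv ≫ h = 0 := by rw [← cancel_epi ((Coh.push j).map p), this, comp_zero]
    rw [← cancel_epi aL.inv, h', comp_zero]
  haveI : (Coh.push j).Additive := inferInstanceAs (Scheme.Modules.pushforward j).Additive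
  let T : ULift.{u} (Fin N) → Z.Modules := fun _ => Coh.structureModule Z
  rw [show p = ∑ l, biproduct.π T l ≫ biproduct.ι T l ≫ p by
    simp only [← Category.assoc, ← Preadditive.sum_comp]
    rw [QCoh.biproduct_total' T, Category.id_comp], Functor.map_sum, Preadditive.sum_comp]
  refine Finset.sum_eq_zero fun l _ => ?_
  rw [Functor.map_comp, Category.assoc]
  suffices (Coh.push j).map (biproduct.ι T l ≫ p) ≫ aL.inv ≫ h = 0 by rw [this, comp_zero]
  haveI : Epi (FFun.modJπ m (Coh.structureModule X) ≫ aO.hom) := epi_comp _ _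
  rw [← cancel_epi (FFun.modJπ m (Coh.structureModule X) ≫ aO.hom), comp_zero]
  have := hh ((FFun.modJπ m (Coh.structureModule X) ≫ aO.hom) ≫ (Coh.push j).map (biproduct.ι T l ≫ p) ≫ aL.inv)
  simpa only [Category.assoc] using this

end Fibre

/-- Nef modules are nonspecial and generated. -/
theorem main (hfib : FibLe A (X := X)) (h1 : Subsingleton (Coh.HH X (Coh.structureModule X) 1))
    {L : X.Modules} (hL : PicF.IsInvertible L) (hnef : RelNef A L) :
    Curv2.IsGloballyGenerated L ∧ Subsingleton (Coh.HH X L 1) := by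
  classical
  haveI := FibVanish.isNoetherian_of_proper A (X := X)
  have hLc : Coh.IsCoh L := CurveDeg.isCoh_of_isInvertible hL
  let H := Coh.HH X L 1
  haveI : Module.Finite A H := S0002.result A X L hLc 1
  -- the sequence `⊕ L → L → L / m L`
  have hseq : ∀ m : Ideal A, ∃ (I : Type u) (_ : Fintype I) (a : I → A) (_ : ∀ l, a l ∈ m)
      (e : FFun.modJ m L ≅ cokernel (biproduct.desc fun l => Formal.smulMod A L (a l))),
      FFun.modJπ m L ≫ e.hom = cokernel.π (biproduct.desc fun l => Formal.smulMod A L (a l)) := by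
    intro m
    obtain ⟨s, hs⟩ := IsNoetherian.noetherian m
    let a : {x // x ∈ s} → A := fun l => l.1
    have ha : ∀ l, a l ∈ m := fun l => hs ▸ Submodule.subset_span l.2
    let φ := biproduct.desc fun l => Formal.smulMod A L (a l)
    have hk : m ≤ FFun.killIdeal (cokernel φ) := by
      rw [← hs, Submodule.span_le]
      intro x hx
      rw [SetLike.mem_coe, FFun.mem_killIdeal, ← cancel_epi (cokernel.π φ), comp_zero,
        ← FFun.smulMod_naturality]
      rw [show Formal.smulMod A L x = biproduct.ι (fun _ : {x // x ∈ s} => L) ⟨x, hx⟩ ≫ φ from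
        (biproduct.ι_desc (f := fun _ : {x // x ∈ s} => L) (fun l => Formal.smulMod A L (a l)) ⟨x, hx⟩).symm, Category.assoc, cokernel.condition, comp_zero]
    have hφ : φ ≫ FFun.modJπ m L = 0 := biproduct.hom_ext' _ _ fun l => by
      rw [biproduct.ι_desc_assoc, comp_zero, FFun.smulMod_naturality,
        FFun.mem_killIdeal.1 (FFun.le_killIdeal_modJ m L (ha l)), comp_zero]
    refine ⟨{x // x ∈ s}, inferInstance, a, ha, ⟨FFun.descJ (cokernel.π φ) hk, cokernel.desc φ (FFun.modJπ m L) hφ,
      by rw [← cancel_epi (FFun.modJπ m L), ← Category.assoc, FFun.π_descJ, cokernel.π_desc, Category.comp_id],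
      by rw [← cancel_epi (cokernel.π φ), cokernel.π_desc_assoc, FFun.π_descJ, Category.comp_id]⟩,
      FFun.π_descJ (cokernel.π φ) hk⟩
  have hIcoh : ∀ (I : Type u) [Fintype I] (a : I → A), Coh.IsCoh (⨁ fun _ : I => L) ∧
      Coh.IsCoh (Abelian.image (biproduct.desc fun l => Formal.smulMod A L (a l))) := fun I _ a => by
    have hB : Coh.IsCoh (⨁ fun _ : I => L) := QCoh.isCoh_biproduct _ fun _ => hLc
    exact ⟨hB, QCoh.isCoh_kernel hLc (QCoh.isCoh_cokernel hB.1 hLc _) _⟩
  have hexact : ∀ {P : X.Modules} (φ : P ⟶ L),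
      (ShortComplex.mk (Abelian.image.ι φ) (cokernel.π φ) (kernel.condition _)).ShortExact := fun φ =>
    { exact := ShortComplex.exact_of_f_is_kernel _ (kernelIsKernel _)
      mono_f := inferInstanceAs (Mono (kernel.ι (cokernel.π φ)))
      epi_g := inferInstanceAs (Epi (cokernel.π φ)) }
  have hH : Subsingleton H := by
    refine not_nontrivial_iff_subsingleton.1 fun hnt => ?_
    obtain ⟨m, hm, hle⟩ := Ideal.exists_le_maximal (Module.annihilator A H) fun h => by
      obtain ⟨x, hx⟩ := exists_ne (0 : H)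
      exact hx (by simpa using (Module.mem_annihilator.1 (h.ge (Submodule.mem_top : (1 : A) ∈ ⊤)) x))
    haveI := hm
    obtain ⟨I, _, a, ha, e, he⟩ := hseq m
    let φ := biproduct.desc fun l => Formal.smulMod A L (a l)
    haveI : Subsingleton (Coh.HH X (cokernel φ) 1) :=
      QCoh.subsingleton_HH_of_iso e 1 (fibre_main m hfib h1 hL hnef).1
    have htop : (⊤ : Submodule A H) ≤ m • ⊤ := fun x _ => by
      obtain ⟨z, hz⟩ := (CurveCohLib.ker_mapLin_g A (hexact φ) 1).le
        (LinearMap.mem_ker.2 (Subsingleton.elim (mapLin A (cokernel.π φ) 1 x) 0))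
      obtain ⟨hB, hI⟩ := hIcoh I a
      obtain ⟨w, rfl⟩ := h1_surjective_of_epi hfib hB hI (Abelian.factorThruImage φ) z
      rw [← hz, FFun.mapLin_comp, FFun.mapLin_congr (Abelian.image.fac φ), biproduct_class (A := A) _ 1 w, map_sum]
      refine Submodule.sum_mem _ fun l _ => ?_
      rw [FFun.mapLin_comp, FFun.mapLin_congr (biproduct.ι_desc _ _), FFun.mapLin_smulMod]
      exact Submodule.smul_mem_smul (ha l) Submodule.mem_top
    obtain ⟨r, hr, hr0⟩ := Submodule.exists_sub_one_mem_and_smul_eq_zero_of_fg_of_le_smul m ⊤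
      (Module.finite_def.1 inferInstance) htop
    exact hm.ne_top ((Ideal.eq_top_iff_one m).2 (by
      simpa using sub_mem (hle (Module.mem_annihilator.2 fun x => hr0 x trivial)) hr))
  refine ⟨?_, hH⟩
  let p : (SheafOfModules.free (Coh.structureModule X ⟶ L) : X.Modules) ⟶ L :=
    Sigma.desc fun s : Coh.structureModule X ⟶ L => s
  refine ⟨_, p, ?_⟩
  let C : X.Modules := cokernel p
  have hPq : Coh.IsQCoh (SheafOfModules.free (Coh.structureModule X ⟶ L) : X.Modules) :=
    QCoh.isQCoh_colimit (Discrete.functor fun _ : (Coh.structureModule X ⟶ L) => Coh.structureModule X)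
      fun _ => QCoh.isCoh_structureModule'.1
  have hC : Coh.IsCoh C := QCoh.isCoh_cokernel hPq hLc p
  have hkill : ∀ m : Ideal A, m.IsMaximal → FFun.modJπ m C = 0 := fun m hm => by
    haveI := hm
    obtain ⟨I, _, a, ha, e, he⟩ := hseq m
    let φ := biproduct.desc fun l => Formal.smulMod A L (a l)
    let h : FFun.modJ m L ⟶ FFun.modJ m C :=
      FFun.descJ (cokernel.π p ≫ FFun.modJπ m C) (FFun.le_killIdeal_modJ m C)
    obtain ⟨hB, hI⟩ := hIcoh I a
    have hBv : Subsingleton (Coh.HH X (⨁ fun _ : I => L) 1) := subsingleton_of_forall_eq 0 fun w => by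
      rw [biproduct_class (A := A) _ 1 w]
      exact Finset.sum_eq_zero fun l _ => by rw [hH.elim (mapLin A (biproduct.π _ l) 1 w) 0, map_zero]
    have hI1 := h1_of_epi hfib hB hI (Abelian.factorThruImage φ) hBv
    have h0 : h = 0 := (fibre_main m hfib h1 hL hnef).2 _ h fun s => by
      obtain ⟨ψ, hψ⟩ := CurveRR.exists_lift_of_HH_one (hexact φ) hI1 (s ≫ e.hom)
      have hs : s = ψ ≫ FFun.modJπ m L := by
        rw [← cancel_mono e.hom, Category.assoc, he]
        exact hψ.symm
      rw [hs, Category.assoc, FFun.π_descJ, ← Category.assoc]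
      have : ψ ≫ cokernel.π p = 0 := by
        rw [show ψ = Sigma.ι (fun _ : (Coh.structureModule X ⟶ L) => Coh.structureModule X) ψ ≫ p from
          (Sigma.ι_desc (fun s : Coh.structureModule X ⟶ L => s) ψ).symm, Category.assoc]
        exact (congrArg _ (cokernel.condition p)).trans comp_zero
      rw [this, zero_comp]
    have hh : cokernel.π p ≫ FFun.modJπ m C = 0 := by
      rw [← FFun.π_descJ (cokernel.π p ≫ FFun.modJπ m C) (FFun.le_killIdeal_modJ m C)]
      exact (congrArg _ h0).trans comp_zero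
    exact (cancel_epi (cokernel.π p)).1 (hh.trans comp_zero.symm)
  have hsupp : CohB1.support C = ∅ := by
    by_contra hne
    obtain ⟨x, hx, hxc⟩ := IsClosed.exists_closed_singleton (QCoh.isClosed_support_of_isFT hC.1 hC.2)
      (Set.nonempty_iff_ne_empty.2 hne)
    refine hx (subsingleton_of_forall_eq 0 fun v => ?_)
    obtain ⟨V, hxV, s, rfl⟩ := C.presheaf.exists_germ_eq (x := x) v
    obtain ⟨_, ⟨U, hU, rfl⟩, hxU, hUV⟩ := X.isBasis_affineOpens.exists_subset_of_mem_open hxV V.2
    rw [← C.presheaf.germ_res_apply (homOfLE hUV) x hxU s]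
    suffices ∀ s' : Γ(C, U), C.presheaf.germ U x hxU s' = 0 from this _
    intro s'
    let y := (X ↘ Spec (CommRingCat.of A)) x
    have hyc : IsClosed ({y} : Set ↥(Spec (CommRingCat.of A))) := by
      simpa using (X ↘ Spec (CommRingCat.of A)).isClosedMap _ hxc
    let m := y.asIdeal
    have hm : m.IsMaximal := (PrimeSpectrum.isClosed_singleton_iff_isMaximal y).1 hyc
    haveI := QCoh.finite_of_isFT hC.1 hC.2 hU
    have htop : (⊤ : Submodule Γ(X, U) Γ(C, U)) ≤ m.map (FFun.φsec (A := A) U) • ⊤ := fun t _ =>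
      FFun.mem_of_π_app_eq_zero hC.1 m hU (by rw [hkill m hm]; rfl)
    obtain ⟨r, hr, hr0⟩ := Submodule.exists_sub_one_mem_and_smul_eq_zero_of_fg_of_le_smul
      (m.map (FFun.φsec (A := A) U)) ⊤ (Module.finite_def.1 inferInstance) htop
    have hrm : X.presheaf.germ U x hxU (r - 1) ∈ IsLocalRing.maximalIdeal (X.presheaf.stalk x) := by
      refine (Ideal.map_le_iff_le_comap.2 fun a ha => ?_ :
        m.map (FFun.φsec (A := A) U) ≤ (IsLocalRing.maximalIdeal _).comap (X.presheaf.germ U x hxU).hom) hr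
      refine (IsLocalRing.mem_maximalIdeal _).2 fun hu => ?_
      have hu' : IsUnit (X.presheaf.germ ⊤ x trivial
          ((X ↘ Spec (CommRingCat.of A)).appTop ((Scheme.ΓSpecIso (CommRingCat.of A)).inv a))) := by
        convert hu using 1
        exact (X.presheaf.germ_res_apply (homOfLE le_top) x hxU _).symm
      have hb := (Scheme.mem_basicOpen X _ x (show x ∈ (⊤ : X.Opens) from trivial)).2 hu'
      rw [← Scheme.preimage_basicOpen_top, basicOpen_eq_of_affine] at hb
      exact hb ha
    have hu : IsUnit (X.presheaf.germ U x hxU r) := by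
      have h := IsLocalRing.isUnit_one_sub_self_of_mem_nonunits (-(X.presheaf.germ U x hxU (r - 1)))
        ((IsLocalRing.mem_maximalIdeal _).1 (Ideal.neg_mem_iff _ |>.2 hrm))
      simpa using h
    refine hu.smul_eq_zero.1 ?_
    refine (QCoh.germ_smul' C hxU r s').symm.trans ?_
    rw [hr0 s' trivial]
    exact map_zero _
  have hz : IsZero C := CurveCohLib.isZero_of_subsingleton_stalks fun x => not_not.1 fun h => hsupp.le h
  exact Preadditive.epi_of_cancel_zero _ fun {N} g hg => by
    rw [← cokernel.π_desc p g hg, hz.eq_of_tgt (cokernel.π p) 0, zero_comp]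

end Groth.Agent.NefCurve.Relative
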