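import Groth.Agent.NefCurve.Gen
import Groth.Agent.CurveEmbed.Conic
import Groth.Agent.CurveCohLib.Nonspecial
import Groth.Agent.NormCurve.Normal
import Groth.Agent.NormCurve.Delta
import Groth.Agent.NagataLib.Scheme
import Groth.Agent.DimOne.Completion
import Groth.Agent.H23.InvStalk
import Groth.Agent.Synt29.ConormalExact
import Mathlib.GroupTheory.CosetCover

/-! Infinitely many regular points of least degree on a curve with `H¹(O) = 0`. -/

noncomputable section

set_option linter.style.haveILetI false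
set_option linter.unusedSectionVars false
set_option backward.isDefEq.respectTransparency false
set_option backward.isDefEq.respectTransparency.types false

universe u

open CategoryTheory CategoryTheory.Limits AlgebraicGeometry TopologicalSpace Opposite
open Groth.Agent.PnCoh.Finite (mapLin)

namespace Groth.Agent.NefCurve

open Groth.Agent Groth.Agent.CurvePoint Groth.Agent.CurveBundle Groth.Agent.CurveSlope

variable (k : Type u) [Field k] {X : Scheme.{u}} [X.Over (Spec (CommRingCat.of k))] [IsIntegral X]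
  [IsProper (X ↘ Spec (CommRingCat.of k))]

include k in
theorem isIntegrallyClosed_of_regular (hdim : topologicalKrullDim X = 1) {x : X}
    (hx : IsClosed ({x} : Set X)) (hreg : IsRegularLocalRing (X.presheaf.stalk x)) :
    IsIntegrallyClosed (X.presheaf.stalk x) := by
  haveI := CurveCohLib.isNoetherian_of_proper (k := k) (X := X)
  have hd : ringKrullDim (X.presheaf.stalk x) = 1 :=
    (SmoothReg.ringKrullDim_stalk_closedPoint (X ↘ Spec (CommRingCat.of k)) hx).trans hdim
  haveI : IsDiscreteValuationRing (X.presheaf.stalk x) := by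
    refine IsLocalRing.finrank_CotangentSpace_eq_one_iff.mp ?_
    rw [IsRegularLocalRing.iff_finrank_cotangentSpace, hd] at hreg
    exact_mod_cast hreg
  infer_instance

include k in
/-- A dense open whose closed points are regular. -/
theorem exists_regular_open (hdim : topologicalKrullDim X = 1) :
    ∃ U : X.Opens, genericPoint X ∈ U ∧
      ∀ x ∈ U, IsClosed ({x} : Set X) → IsRegularLocalRing (X.presheaf.stalk x) := by
  haveI := CurveCohLib.isNoetherian_of_proper (k := k) (X := X)
  haveI : QuasiCompact (X.fromSpecStalk (genericPoint X)) := inferInstance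
  haveI : QuasiSeparated (X.fromSpecStalk (genericPoint X)) := inferInstance
  obtain ⟨U, hU, hiso⟩ := NormCurve.exists_isIso X fun V => NagataLib.isNagata_affineOpen (X ↘ Spec (CommRingCat.of k)) V
  haveI := hiso
  let ν := Curv2.normalizationι X
  refine ⟨U, ((genericPoint_spec X).mem_open_set_iff U.2).2 (by rw [Set.univ_inter]; exact hU.nonempty), fun x hxU hx => ?_⟩
  obtain ⟨y, hy⟩ := (ν ∣_ U).surjective ⟨x, hxU⟩
  obtain rfl : ν y.1 = x := by
    rw [← Scheme.Opens.ι_apply (ν ⁻¹ᵁ U) y]
    exact ((Scheme.Hom.comp_apply _ _ _).symm.trans ((congrArg (fun g => g y) (morphismRestrict_ι ν U)).symm.trans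
      ((Scheme.Hom.comp_apply _ _ _).trans (congrArg U.ι hy))))
  haveI : IsIso (ν.stalkMap y.1) := by
    haveI : IsIso ((ν ∣_ U).stalkMap y) := inferInstance
    exact ((MorphismProperty.isomorphisms CommRingCat).arrow_mk_iso_iff (morphismRestrictStalkMap ν U y)).1 this
  haveI : IsIntegrallyClosed ((Curv2.normalization X).presheaf.stalk y.1) :=
    (NormCurve.isNormalScheme_normalization X y.1).2
  haveI : IsIntegrallyClosed (X.presheaf.stalk (ν y.1)) :=
    IsIntegrallyClosed.of_equiv (asIso (ν.stalkMap y.1)).commRingCatIsoToRingEquiv.symm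
  haveI := CurveEmbed.isDVR_of_normal k hdim hx inferInstance
  infer_instance

theorem isNef_of_deg (hdim : topologicalKrullDim X = 1) {L : X.Modules} (hL : PicF.IsInvertible L)
    (hd : 0 ≤ Curv2.deg k X L 1) : IsNef k L := fun J hJ hJd => by
  haveI := CurveCohLib.isNoetherian_of_proper (k := k) (X := X)
  haveI := hJ
  let j := J.subschemeι
  haveI : Surjective j := by
    refine ⟨fun x => ?_⟩
    have hgen : genericPoint X ∈ Set.range j := by
      by_contra h
      have hclz : ∀ z : J.subscheme, IsClosed ({z} : Set J.subscheme) := fun z => by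
        have h1 : IsClosed ({j z} : Set X) := DimOne.isClosed_singleton hdim.le fun hg =>
          h ⟨z, (hg (genericPoint X) (genericPoint_specializes _)).symm⟩
        have h2 := h1.preimage j.continuous
        rwa [← Set.image_singleton, Set.preimage_image_eq _ j.isClosedEmbedding.injective] at h2
      have hall : ∀ w : J.subscheme, w = genericPoint J.subscheme := fun w =>
        Set.mem_singleton_iff.1 (((genericPoint_spec J.subscheme).specializes (Set.mem_univ w)).mem_closed
          (hclz _) (Set.mem_singleton _))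
      have hsub : Subsingleton (IrreducibleCloseds J.subscheme) := ⟨fun a b => by
        have key : ∀ (a : IrreducibleCloseds J.subscheme), (a : Set J.subscheme) = Set.univ := fun a => by
          obtain ⟨z, hz⟩ := a.isIrreducible.nonempty
          refine Set.eq_univ_of_forall fun w => ?_
          rw [hall w, ← hall z]
          exact hz
        exact IrreducibleCloseds.ext ((key a).trans (key b).symm)⟩
      have : topologicalKrullDim J.subscheme ≤ 0 := Order.krullDim_nonpos_of_subsingleton
      rw [hJd] at this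
      exact absurd this (by norm_num)
    exact ((genericPoint_specializes x).mem_closed j.isClosedEmbedding.isClosed_range hgen)
  haveI : IsIso j := isIso_of_isClosedImmersion_of_surjective j
  letI : J.subscheme.Over (Spec (CommRingCat.of k)) := ⟨j ≫ (X ↘ Spec (CommRingCat.of k))⟩
  obtain ⟨a⟩ := push_structure_of_isIso j
  have h1 := IntNum.deg_pullback_closed k j rfl (CurveDeg.isCoh_of_isInvertible hL).1 1
  rw [CurveCohLib.euler_congr (k := k) a, CurveCohLib.euler_congr (k := k)
    (PicGrp.tensorModIso a (Iso.refl _) ≪≫ CurveTensor.structureTensorIso _)] at h1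
  show 0 ≤ Curv2.deg k J.subscheme ((Scheme.Modules.pullback j).obj L) 1
  rw [h1]
  exact hd

omit [IsIntegral X] in
theorem gen_apply {L P : X.Modules} (hL : Gen L) (g : L ⟶ P)
    (h : ∀ t : Coh.HH X L 0, mapLin k g 0 t = 0) : g = 0 := hL P g fun s => by
  refine CurveRR.hom_ext_one ?_
  show g.app ⊤ (s.app ⊤ (H23.Frame.one ⊤)) = 0
  let t : Coh.HH X L 0 := (Sheaf.H.equiv₀ (Coh.toAb L) isTerminalTop).symm (s.app ⊤ (H23.Frame.one ⊤))
  have h1 := Sheaf.H.equiv₀_naturality isTerminalTop ((QCoh.toAbFunctor X).map g) t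
  have h2 := congrArg (Sheaf.H.equiv₀ (Coh.toAb P) isTerminalTop) (h t)
  have h3 : (Sheaf.H.equiv₀ (Coh.toAb L) isTerminalTop) t = s.app ⊤ (H23.Frame.one ⊤) :=
    AddEquiv.apply_symm_apply _ _
  exact (congrArg (g.app ⊤) h3.symm).trans (h1.trans (h2.trans (map_zero _)))

include k in
/-- A regular closed point outside a finite set of degree at most that of a given invertible module. -/
theorem exists_point_deg_le [Infinite k] (hdim : topologicalKrullDim X = 1)
    (h1 : Subsingleton (Coh.HH X (Coh.structureModule X) 1)) {L : X.Modules} (hL : PicF.IsInvertible L)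
    (hd : 0 < Curv2.deg k X L 1) {S : Set X} (hS : S.Finite) :
    ∃ (Q : X) (hQ : IsClosed ({Q} : Set X)), Q ∉ S ∧ IsRegularLocalRing (X.presheaf.stalk Q) ∧
      (Module.finrank k (Coh.HH X (ClSub.quotMod (ptIdeal Q hQ)) 0) : ℤ) ≤ Curv2.deg k X L 1 := by
  classical
  haveI := CurveCohLib.isNoetherian_of_proper (k := k) (X := X)
  haveI : JacobsonSpace X := LocallyOfFiniteType.jacobsonSpace (X ↘ Spec (CommRingCat.of k))
  obtain ⟨U, hgU, hUreg⟩ := exists_regular_open k hdim
  obtain ⟨P, hPU, hP⟩ := nonempty_inter_closedPoints (Z := (U : Set X)) ⟨_, hgU⟩ U.2.isLocallyClosed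
  let dg : ∀ Q : X, IsClosed ({Q} : Set X) → ℕ := fun Q hQ =>
    Module.finrank k (Coh.HH X (ClSub.quotMod (ptIdeal Q hQ)) 0)
  have hQc : ∀ (Q : X) (hQ : IsClosed ({Q} : Set X)), Coh.IsCoh (ClSub.quotMod (ptIdeal Q hQ)) :=
    fun Q hQ => ParShLib.isCoh_quotMod _
  have hχQ : ∀ (Q : X) (hQ : IsClosed ({Q} : Set X)),
      Curv2.euler k X (ClSub.quotMod (ptIdeal Q hQ)) = (dg Q hQ : ℤ) := fun Q hQ =>
    CurveCohLib.euler_eq_finrank_zero (hQc Q hQ) (closed_support Q hQ)
  obtain ⟨d, hdL⟩ : ∃ d : ℕ, Curv2.deg k X L 1 = (d : ℤ) := ⟨_, (Int.toNat_of_nonneg hd.le).symm⟩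
  have hnef : IsNef k L := isNef_of_deg k hdim hL hd.le
  have hLc : Coh.IsCoh L := CurveDeg.isCoh_of_isInvertible hL
  obtain ⟨hL1, hLg⟩ := main_quotient k hdim.le h1 hL hnef _ L (𝟙 L) hLc le_rfl
  have hLf : FlatMod.IsFinLocFree L := fun y =>
    let ⟨W, hy, he⟩ := InvEnd.isFinLocFreeOfRank_one hL y; ⟨W, 1, hy, he⟩
  haveI := CurveCohLib.finite_HH (k := k) hLc 0
  -- sections vanishing at a point
  let π : ∀ (Q : X) (hQ : IsClosed ({Q} : Set X)), L ⟶ (DCoh.tensorBi.obj L).obj (ClSub.quotMod (ptIdeal Q hQ)) :=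
    fun Q hQ => (KFlatLib.tensorUnitIso L).inv ≫ (DCoh.tensorBi.obj L).map (ClSub.toSubscheme (ptIdeal Q hQ))
  have hπepi : ∀ Q hQ, Epi (π Q hQ) := fun Q hQ =>
    (shortExact_of_iso_mid _ _ _ (CurveTensor.shortExact_tensor hLf _ _ _ (shortExact_pt Q hQ))
      (KFlatLib.tensorUnitIso L)).epi_g
  have hne : ∀ Q hQ, LinearMap.ker (mapLin k (π Q hQ) 0) ≠ ⊤ := fun Q hQ h => by
    have h0 := gen_apply k hLg (π Q hQ) fun t => LinearMap.mem_ker.1 (h ▸ Submodule.mem_top)
    haveI := hπepi Q hQ
    have hz : IsZero ((DCoh.tensorBi.obj L).obj (ClSub.quotMod (ptIdeal Q hQ))) := by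
      rw [IsZero.iff_id_eq_zero, ← cancel_epi (π Q hQ), h0]; simp
    have hzs := Functor.map_isZero (DerSch.stalkFunctor X Q) hz
    obtain ⟨a⟩ := H23.InvStalk.exists_stalk_equiv hL Q
    let E := ((KFlatLib.stalkTensorIso Q L (ClSub.quotMod (ptIdeal Q hQ))).toLinearEquiv.symm.trans
      ((TensorProduct.congr a (LinearEquiv.refl _ _)).trans (TensorProduct.lid _ _)))
    haveI := ModuleCat.subsingleton_of_isZero hzs
    exact not_subsingleton_stalk Q hQ E.symm.toEquiv.subsingleton
  have hfin := hS
  have hbadfin : ((U : Set X)ᶜ).Finite := DimOne.finite_of_forall_not_isGen hdim.le U.2.isClosed_compl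
    fun x hx hg => hx (by rw [← hg (genericPoint X) (genericPoint_specializes x)]; exact hgU)
  let F := (hfin.union hbadfin).toFinset
  let V : Option X → Submodule k (Coh.HH X L 0) := fun o => o.elim ⊥ fun Q =>
    if hQ : IsClosed ({Q} : Set X) then LinearMap.ker (mapLin k (π Q hQ) 0) else ⊥
  have hpos : 0 < Module.finrank k (Coh.HH X L 0) := by
    by_contra h
    haveI : Subsingleton (Coh.HH X L 0) := Module.finrank_zero_iff.1 (Nat.eq_zero_of_not_pos h)
    exact hne P hP (Subsingleton.elim _ _)
  haveI : Nontrivial (Coh.HH X L 0) := Module.nontrivial_of_finrank_pos hpos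
  have hV : (⊤ : Submodule k (Coh.HH X L 0)) ∉ (insert none (F.image some)).image V := by
    intro h
    obtain ⟨o, -, ho⟩ := Finset.mem_image.1 h
    cases o with
    | none => exact bot_ne_top ho
    | some Q =>
      simp only [V, Option.elim] at ho
      split_ifs at ho with hQ
      · exact hne Q hQ ho
      · exact bot_ne_top ho
  obtain ⟨t, ht⟩ := (Set.ne_univ_iff_exists_notMem _).1 (Subspace.biUnion_ne_univ_of_top_notMem hV)
  have ht' : ∀ o ∈ insert none (F.image some), t ∉ V o := fun o ho h =>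
    ht (Set.mem_biUnion (Finset.mem_image_of_mem V ho) h)
  have ht0 : t ≠ 0 := fun h => ht' none (Finset.mem_insert_self _ _) (h ▸ Submodule.zero_mem _)
  let s := CurveSpecial.homOfClass t
  obtain ⟨hm, hrk⟩ := CurveCohLib.Nonspecial.section_of_sub k hLc hL (𝟙 L) s (CurveSpecial.homOfClass_ne_zero ht0)
  haveI := hm
  have hC : Coh.IsCoh (cokernel s) := QCoh.isCoh_cokernel QCoh.isCoh_structureModule'.1 hLc s
  have hCcl : ∀ x ∈ CohB1.support (cokernel s), IsClosed ({x} : Set X) := fun x hx => by
    by_contra hxc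
    obtain rfl := CurveCohLib.eq_genericPoint_of_not_isClosed hdim hxc
    letI := (isField_stalk_generic (X := X)).toField
    haveI := finite_stalk_of_coh hC (genericPoint X)
    exact hx (Module.finrank_zero_iff.1 hrk)
  have hχC : Curv2.euler k X (cokernel s) = (d : ℤ) := by
    have he := euler_add' k _ _ _ (shortExact_cokernel_of_mono s) QCoh.isCoh_structureModule' hLc hC
    unfold Curv2.deg at hdL
    push_cast at hdL
    linarith
  obtain ⟨Q, hQ⟩ : ∃ Q, Q ∈ CohB1.support (cokernel s) := by
    by_contra h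
    push Not at h
    have hz : IsZero (cokernel s) := CurveCohLib.isZero_of_subsingleton_stalks fun x => not_not.1 (h x)
    rw [CurveSlope.euler_eq_zero_of_isZero k hz] at hχC
    omega
  have hQcl := hCcl Q hQ
  -- the section vanishes at `Q`
  have hvan : s ≫ π Q hQcl = 0 := by
    refine Synt29.ConormalExact.hom_ext_stalk _ _ fun x m => ?_
    rw [Functor.map_zero]
    show _ = 0
    by_cases hx : x = Q
    · subst hx
      rw [Functor.map_comp]
      show (DerSch.stalkFunctor X x).map (π x hQcl) ((DerSch.stalkFunctor X x).map s m) = 0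
      obtain ⟨a⟩ := H23.InvStalk.exists_stalk_equiv hL x
      have hb : ∀ m, a ((DerSch.stalkFunctor X x).map s m) ∈ IsLocalRing.maximalIdeal (X.presheaf.stalk x) := by
        intro m
        by_contra hu
        have hu' := not_not.1 fun h => hu ((IsLocalRing.mem_maximalIdeal _).2 h)
        obtain ⟨v, hv⟩ := hu'
        refine hQ (subsingleton_of_forall_eq 0 fun q => ?_)
        obtain ⟨w, rfl⟩ := (ModuleCat.epi_iff_surjective ((DerSch.stalkFunctor X x).map (cokernel.π s))).1
          inferInstance q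
        have hw : w = (a w * ↑v⁻¹) • (DerSch.stalkFunctor X x).map s m := a.injective (by
          rw [map_smul, smul_eq_mul, ← hv, mul_assoc, Units.inv_mul, mul_one])
        rw [hw, map_smul]
        have h0 : (DerSch.stalkFunctor X x).map (cokernel.π s) ((DerSch.stalkFunctor X x).map s m) = 0 :=
          (congr(($((DerSch.stalkFunctor X x).map_comp s (cokernel.π s))).hom m)).symm.trans
            (by rw [cokernel.condition, Functor.map_zero]; rfl)
        rw [h0, smul_zero]
      have hdec : (DerSch.stalkFunctor X x).map s m = a ((DerSch.stalkFunctor X x).map s m) • a.symm 1 :=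
        a.injective (by rw [map_smul, LinearEquiv.apply_symm_apply, smul_eq_mul, mul_one])
      rw [hdec, map_smul]
      exact smul_tensor_eq_zero x hQcl (hb m) _
    · haveI : Subsingleton (((DCoh.tensorBi.obj L).obj (ClSub.quotMod (ptIdeal Q hQcl))).presheaf.stalk x) :=
        not_not.1 fun h => hx (Set.mem_singleton_iff.1 (support_quot_subset Q hQcl (CurveTensor.support_tensor_subset h)))
      exact Subsingleton.elim (α := ((DCoh.tensorBi.obj L).obj (ClSub.quotMod (ptIdeal Q hQcl))).presheaf.stalk x) _ _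
  have hnotF : Q ∉ F := fun hF => by
    refine ht' (some Q) (Finset.mem_insert_of_mem (Finset.mem_image_of_mem _ hF)) ?_
    simp only [V, Option.elim]
    rw [dif_pos hQcl, LinearMap.mem_ker]
    refine (Sheaf.H.equiv₀ (Coh.toAb ((DCoh.tensorBi.obj L).obj (ClSub.quotMod (ptIdeal Q hQcl)))) isTerminalTop).injective ?_
    refine (Sheaf.H.equiv₀_naturality isTerminalTop ((QCoh.toAbFunctor X).map (π Q hQcl)) t).symm.trans ?_
    refine (congrArg ((π Q hQcl).app ⊤) (CurveSpecial.homOfClass_one t).symm).trans ?_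
    exact (congr(($hvan).app ⊤ (H23.Frame.one ⊤))).trans (map_zero _).symm
  have hnot : Q ∉ S ∪ ((U : Set X)ᶜ) := fun h => hnotF ((Set.Finite.mem_toFinset _).2 h)
  have hQU : Q ∈ U := not_not.1 fun h => hnot (Or.inr h)
  -- the degree of `Q` is at most that of `L`
  have hle : dg Q hQcl ≤ d := by
    let T := (DCoh.tensorBi.obj L).obj (ClSub.quotMod (ptIdeal Q hQcl))
    have hT : Coh.IsCoh T := CurveTensor.isCoh_tensor hLf (hQc Q hQcl)
    let h' : cokernel s ⟶ T := cokernel.desc s (π Q hQcl) hvan
    haveI : Epi h' := by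
      haveI : Epi (cokernel.π s ≫ h') := by rw [cokernel.π_desc]; exact hπepi Q hQcl
      exact epi_of_epi (cokernel.π s) h'
    have hK : Coh.IsCoh (kernel h') := QCoh.isCoh_kernel hC hT h'
    have he := euler_add' k _ _ _ (CurveSlope.shortExact_kernel_of_epi h') hK hC hT
    have hKs : ∀ x ∈ CohB1.support (kernel h'), IsClosed ({x} : Set X) := fun x hx =>
      hCcl x (QCoh.mem_support_of_mono hK.1 hC.1 (kernel.ι h') hx)
    rw [CurveCohLib.euler_eq_finrank_zero hK hKs,
      CurveTensor.euler_tensor_torsion k (InvEnd.isFinLocFreeOfRank_one hL) (hQc Q hQcl) (closed_support Q hQcl),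
      hχQ, hχC] at he
    push_cast at he
    omega
  refine ⟨Q, hQcl, fun h => hnot (Or.inl h), hUreg Q hQU hQcl, ?_⟩
  rw [hdL]
  exact_mod_cast hle

theorem infinite_minimal [Infinite k] (hdim : topologicalKrullDim X = 1)
    (h1 : Subsingleton (Coh.HH X (Coh.structureModule X) 1)) :
    {P : X | ∃ hPc : IsClosed ({P} : Set X), IsRegularLocalRing (X.presheaf.stalk P) ∧
      ∀ (Q : X) (hQc : IsClosed ({Q} : Set X)), IsRegularLocalRing (X.presheaf.stalk Q) →
        Module.finrank k (Coh.HH X (ClSub.quotMod (ptIdeal P hPc)) 0) ≤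
          Module.finrank k (Coh.HH X (ClSub.quotMod (ptIdeal Q hQc)) 0)}.Infinite := by
  classical
  haveI := CurveCohLib.isNoetherian_of_proper (k := k) (X := X)
  haveI : JacobsonSpace X := LocallyOfFiniteType.jacobsonSpace (X ↘ Spec (CommRingCat.of k))
  obtain ⟨U, hgU, hUreg⟩ := exists_regular_open k hdim
  let dg : ∀ Q : X, IsClosed ({Q} : Set X) → ℕ := fun Q hQ =>
    Module.finrank k (Coh.HH X (ClSub.quotMod (ptIdeal Q hQ)) 0)
  have hex : ∃ n, ∃ (Q : X) (hQ : IsClosed ({Q} : Set X)), IsRegularLocalRing (X.presheaf.stalk Q) ∧ dg Q hQ = n := by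
    obtain ⟨Q, hQU, hQ⟩ := nonempty_inter_closedPoints (Z := (U : Set X)) ⟨_, hgU⟩ U.2.isLocallyClosed
    exact ⟨_, Q, hQ, hUreg Q hQU hQ, rfl⟩
  obtain ⟨P, hP, hPreg, hPd⟩ := Nat.find_spec hex
  have hmin : ∀ (Q : X) (hQ : IsClosed ({Q} : Set X)), IsRegularLocalRing (X.presheaf.stalk Q) →
      dg P hP ≤ dg Q hQ := fun Q hQ hQr => hPd.le.trans (Nat.find_le ⟨Q, hQ, hQr, rfl⟩)
  -- the module of the point
  have hI := CurveEmbed.isInvertible_point k hdim hP (isIntegrallyClosed_of_regular k hdim hP hPreg)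
  obtain ⟨L, hL, ⟨e⟩⟩ := H23.PicInv.exists_inverse hI
  have hQc : ∀ (Q : X) (hQ : IsClosed ({Q} : Set X)), Coh.IsCoh (ClSub.quotMod (ptIdeal Q hQ)) :=
    fun Q hQ => ParShLib.isCoh_quotMod _
  have hχQ : ∀ (Q : X) (hQ : IsClosed ({Q} : Set X)),
      Curv2.euler k X (ClSub.quotMod (ptIdeal Q hQ)) = (dg Q hQ : ℤ) := fun Q hQ =>
    CurveCohLib.euler_eq_finrank_zero (hQc Q hQ) (closed_support Q hQ)
  have hdI : Curv2.deg k X (ptMod P hP) 1 = -(dg P hP : ℤ) := by
    have he := euler_add' k _ _ _ (shortExact_pt P hP) (CurveDeg.isCoh_of_isInvertible hI)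
      QCoh.isCoh_structureModule' (hQc P hP)
    rw [hχQ P hP] at he
    unfold Curv2.deg
    push_cast
    linarith
  have hdL : Curv2.deg k X L 1 = (dg P hP : ℤ) := by
    have h := CurveRR.deg_tensor k hdim hI hL
    have h2 : Curv2.deg k X ((DCoh.tensorBi.obj (ptMod P hP)).obj L) 1 = Curv2.deg k X (Coh.structureModule X) 1 :=
      CurveRR.deg_congr k e 1
    rw [h2, CurveDeg.deg_structureModule, hdI] at h
    omega
  intro hfin
  have hdpos : 0 < dg P hP := by
    by_contra h
    haveI := CurveCohLib.finite_HH (k := k) (hQc P hP) 0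
    have hz := CurveCohLib.isZero_of_euler_eq_zero (k := k) (hQc P hP) (closed_support P hP)
      (by rw [hχQ P hP, Nat.eq_zero_of_not_pos h]; rfl)
    exact not_subsingleton_stalk P hP (ModuleCat.subsingleton_of_isZero
      (Functor.map_isZero (DerSch.stalkFunctor X P) hz))
  obtain ⟨Q, hQcl, hnot, hQreg, hle⟩ := exists_point_deg_le k hdim h1 hL (by rw [hdL]; exact_mod_cast hdpos) hfin
  have hle' : dg Q hQcl ≤ dg P hP := by
    rw [hdL] at hle
    exact_mod_cast hle
  exact hnot ⟨hQcl, hQreg, fun R hR hRr => hle'.trans (hmin R hR hRr)⟩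

end Groth.Agent.NefCurve
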