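import Groth.Agent.NefCurve.Mult
import Groth.Agent.IntNum.CurveAmple
import Groth.Agent.AmpleX.Pow

/-! Ample invertible modules on curves with `H¹(O) = 0`. -/

noncomputable section

set_option linter.style.haveILetI false
set_option linter.unusedSectionVars false
set_option backward.isDefEq.respectTransparency false
set_option backward.isDefEq.respectTransparency.types false

universe u

open CategoryTheory CategoryTheory.Limits AlgebraicGeometry TopologicalSpace Opposite

namespace Groth.Agent.NefCurve

open Groth.Agent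

variable (k : Type u) [Field k] {X : Scheme.{u}} [X.Over (Spec (CommRingCat.of k))]
  [IsProper (X ↘ Spec (CommRingCat.of k))]

theorem isNef_of_isAmple {L : X.Modules} (hL : CohB1.IsAmple L) : IsNef k L := fun J hJ hd => by
  haveI := hJ
  exact (IntNum.deg_pos_of_isAmple k J.subschemeι hd hL).le

include k in
theorem gen_of_isAmple (hdim : topologicalKrullDim X ≤ 1)
    (h1 : Subsingleton (Coh.HH X (Coh.structureModule X) 1)) {L : X.Modules} (hL : CohB1.IsAmple L) : Gen L := by
  haveI := CurveCohLib.isNoetherian_of_proper (k := k) (X := X)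
  exact (main_quotient k hdim h1 hL.1 (isNef_of_isAmple k hL) _ L (𝟙 L) (CurveDeg.isCoh_of_isInvertible hL.1) le_rfl).2

include k in
theorem gen_tensorPow (hdim : topologicalKrullDim X ≤ 1)
    (h1 : Subsingleton (Coh.HH X (Coh.structureModule X) 1)) {L : X.Modules} (hL : CohB1.IsAmple L) :
    ∀ n : ℕ, Gen (CohB1.tensorPow L n)
  | 0 => fun N g hg => by
    have h := hg (𝟙 (Coh.structureModule X))
    rwa [Category.id_comp] at h
  | n + 1 => gen_of_isAmple k hdim h1 (AmpleX.isAmple_tensorPow hL n.succ_pos)

include k in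
theorem closure_tensorPow (hdim : topologicalKrullDim X ≤ 1)
    (h1 : Subsingleton (Coh.HH X (Coh.structureModule X) 1)) {L : X.Modules} (hL : CohB1.IsAmple L) (n : ℕ)
    (z : Γ(CohB1.tensorPow L (n + 1), ⊤)) :
    z ∈ AddSubgroup.closure (Set.range fun ab : Γ(CohB1.tensorPow L n, ⊤) × Γ(L, ⊤) => InvX.tmul ab.1 ab.2) := by
  haveI := CurveCohLib.isNoetherian_of_proper (k := k) (X := X)
  have hP := InvX.isInvertible_tensorPow hL.1 n
  exact tmul_closure_eq_top k hdim h1
    (fun x => let ⟨W, hx, he⟩ := InvEnd.isFinLocFreeOfRank_one hP x; ⟨W, 1, hx, he⟩)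
    (CurveDeg.isCoh_of_isInvertible hP) (gen_tensorPow k hdim h1 hL n)
    (CurveDeg.isCoh_of_isInvertible hL.1) (gen_of_isAmple k hdim h1 hL) z

end Groth.Agent.NefCurve
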