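import Groth.Agent.KFlatLib.Scheme.QCohTensor
import Groth.Agent.InvX.Tensor
import Groth.Agent.H23.Frame

/-! Sections of a tensor product with the structure sheaf, and tensors of sections under maps. -/

noncomputable section

set_option linter.style.haveILetI false
set_option backward.isDefEq.respectTransparency false
set_option backward.isDefEq.respectTransparency.types false

universe u

open CategoryTheory CategoryTheory.Limits AlgebraicGeometry TopologicalSpace Opposite MonoidalCategory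

namespace Groth.Agent.NefCurve

open Groth.Agent

variable {X : Scheme.{u}}

theorem tensorUnitIso_tmul (M : X.Modules) (a : Γ(M, ⊤)) :
    (KFlatLib.tensorUnitIso M).hom.app ⊤ (InvX.tmul a (show Γ(Coh.structureModule X, ⊤) from (1 : Γ(X, ⊤)))) = a := by
  let f : DCoh.toP.obj M ⊗ DCoh.toP.obj (Coh.structureModule X) ⟶ DCoh.toP.obj M := (ρ_ (DCoh.toP.obj M)).hom
  have key : KFlatLib.unitShP _ ≫ DCoh.toP.map (DCoh.shP.map f ≫ (KFlatLib.counitShP X).app M) = f := by
    rw [Functor.map_comp, ← Category.assoc, ← KFlatLib.unitShP_naturality, Category.assoc]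
    have h := (PresheafOfModules.sheafificationAdjunction (𝟙 X.ringCatSheaf.obj)).right_triangle_components M
    exact (congrArg (f ≫ ·) h).trans (Category.comp_id _)
  have h1 : (KFlatLib.tensorUnitIso M).hom = DCoh.shP.map f ≫ (KFlatLib.counitShP X).app M := by
    show (DCoh.shP.map f ≫ 𝟙 _) ≫ (KFlatLib.counitShP X).app M = _
    rw [Category.comp_id]
  rw [h1]
  refine (congrArg (fun ψ : DCoh.toP.obj M ⊗ DCoh.toP.obj (Coh.structureModule X) ⟶ DCoh.toP.obj M =>
    ψ.app (op ⊤) (KFlatLib.tm a (show Γ(Coh.structureModule X, ⊤) from (1 : Γ(X, ⊤))))) key).trans ?_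
  exact one_smul Γ(X, ⊤) a

theorem exists_tmul_one (M : X.Modules) (z : Γ((DCoh.tensorBi.obj M).obj (Coh.structureModule X), ⊤)) :
    ∃ a : Γ(M, ⊤), z = InvX.tmul a (show Γ(Coh.structureModule X, ⊤) from (1 : Γ(X, ⊤))) := by
  refine ⟨(KFlatLib.tensorUnitIso M).hom.app ⊤ z, ?_⟩
  have h : Function.Injective ((KFlatLib.tensorUnitIso M).hom.app ⊤) := fun x y hxy => by
    have := congrArg ((KFlatLib.tensorUnitIso M).inv.app ⊤) hxy
    have hid : ∀ w, (KFlatLib.tensorUnitIso M).inv.app ⊤ ((KFlatLib.tensorUnitIso M).hom.app ⊤ w) = w :=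
      fun w => congr(($((KFlatLib.tensorUnitIso M).hom_inv_id)).app ⊤ w)
    rwa [hid, hid] at this
  exact h (tensorUnitIso_tmul M _).symm

theorem app_tmul {T T' : X.Modules} (φ : T ⟶ T') (G : X.Modules) (t : Γ(G, ⊤)) (s : Γ(T, ⊤)) :
    ((DCoh.tensorBi.obj G).map φ).app ⊤ (InvX.tmul t s) = InvX.tmul t (φ.app ⊤ s) :=
  (congrArg (fun ψ : DCoh.toP.obj G ⊗ DCoh.toP.obj T ⟶ DCoh.toP.obj ((DCoh.tensorBi.obj G).obj T') =>
    ψ.app (op ⊤) (KFlatLib.tm t s)) (KFlatLib.unitShP_naturality (DCoh.toP.obj G ◁ DCoh.toP.map φ))).symm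

theorem tensorUnitIso_tmul_open (W : X.Opens) (M : X.Modules) (a : Γ(M, W)) :
    (KFlatLib.tensorUnitIso M).hom.app W (InvX.tmul a (show Γ(Coh.structureModule X, W) from (1 : Γ(X, W)))) = a := by
  let f : DCoh.toP.obj M ⊗ DCoh.toP.obj (Coh.structureModule X) ⟶ DCoh.toP.obj M := (ρ_ (DCoh.toP.obj M)).hom
  have key : KFlatLib.unitShP _ ≫ DCoh.toP.map (DCoh.shP.map f ≫ (KFlatLib.counitShP X).app M) = f := by
    rw [Functor.map_comp, ← Category.assoc, ← KFlatLib.unitShP_naturality, Category.assoc]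
    have h := (PresheafOfModules.sheafificationAdjunction (𝟙 X.ringCatSheaf.obj)).right_triangle_components M
    exact (congrArg (f ≫ ·) h).trans (Category.comp_id _)
  have h1 : (KFlatLib.tensorUnitIso M).hom = DCoh.shP.map f ≫ (KFlatLib.counitShP X).app M := by
    show (DCoh.shP.map f ≫ 𝟙 _) ≫ (KFlatLib.counitShP X).app M = _
    rw [Category.comp_id]
  rw [h1]
  refine (congrArg (fun ψ : DCoh.toP.obj M ⊗ DCoh.toP.obj (Coh.structureModule X) ⟶ DCoh.toP.obj M =>
    ψ.app (op W) (KFlatLib.tm a (show Γ(Coh.structureModule X, W) from (1 : Γ(X, W))))) key).trans ?_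
  exact one_smul Γ(X, W) a

theorem exists_tmul_one_open (W : X.Opens) (M : X.Modules) (z : Γ((DCoh.tensorBi.obj M).obj (Coh.structureModule X), W)) :
    ∃ a : Γ(M, W), z = InvX.tmul a (show Γ(Coh.structureModule X, W) from (1 : Γ(X, W))) := by
  refine ⟨(KFlatLib.tensorUnitIso M).hom.app W z, ?_⟩
  have h : Function.Injective ((KFlatLib.tensorUnitIso M).hom.app W) := fun x y hxy => by
    have := congrArg ((KFlatLib.tensorUnitIso M).inv.app W) hxy
    have hid : ∀ w, (KFlatLib.tensorUnitIso M).inv.app W ((KFlatLib.tensorUnitIso M).hom.app W w) = w :=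
      fun w => congr(($((KFlatLib.tensorUnitIso M).hom_inv_id)).app W w)
    rwa [hid, hid] at this
  exact h (tensorUnitIso_tmul_open W M _).symm

theorem app_tmul_open (W : X.Opens) {T T' : X.Modules} (φ : T ⟶ T') (G : X.Modules) (t : Γ(G, W)) (s : Γ(T, W)) :
    ((DCoh.tensorBi.obj G).map φ).app W (InvX.tmul t s) = InvX.tmul t (φ.app W s) :=
  (congrArg (fun ψ : DCoh.toP.obj G ⊗ DCoh.toP.obj T ⟶ DCoh.toP.obj ((DCoh.tensorBi.obj G).obj T') =>
    ψ.app (op W) (KFlatLib.tm t s)) (KFlatLib.unitShP_naturality (DCoh.toP.obj G ◁ DCoh.toP.map φ))).symm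

theorem commIso_app_tmul (W : X.Opens) (A B : X.Modules) (a : Γ(A, W)) (b : Γ(B, W)) :
    (DCoh.shP.map (β_ (DCoh.toP.obj A) (DCoh.toP.obj B)).hom).app W (InvX.tmul a b) = InvX.tmul b a :=
  (congrArg (fun ψ : DCoh.toP.obj A ⊗ DCoh.toP.obj B ⟶ DCoh.toP.obj ((DCoh.tensorBi.obj B).obj A) =>
    ψ.app (op W) (KFlatLib.tm a b)) (KFlatLib.unitShP_naturality (β_ (DCoh.toP.obj A) (DCoh.toP.obj B)).hom)).symm

end Groth.Agent.NefCurve
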