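import Groth.Agent.NefCurve.Gen
import Groth.Agent.NefCurve.UnitTmul
import Groth.Agent.QCoh.Support

/-! Products of sections of globally generated modules on curves with `H¹(O) = 0`. -/

noncomputable section

set_option linter.style.haveILetI false
set_option linter.unusedSectionVars false
set_option backward.isDefEq.respectTransparency false
set_option backward.isDefEq.respectTransparency.types false

universe u

open CategoryTheory CategoryTheory.Limits AlgebraicGeometry TopologicalSpace Opposite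
open Groth.Agent.PnCoh.Finite (mapLin)

namespace Groth.Agent.NefCurve

open Groth.Agent

variable (k : Type u) [Field k] {X : Scheme.{u}} [X.Over (Spec (CommRingCat.of k))]
  [IsProper (X ↘ Spec (CommRingCat.of k))]

theorem mapLin_comp {A B C : X.Modules} (f : A ⟶ B) (g : B ⟶ C) (n : ℕ) (x : Coh.HH X A n) :
    mapLin k (f ≫ g) n x = mapLin k g n (mapLin k f n x) :=
  (PnCoh.Finite.map_map (Y := X.toPresheafedSpace.carrier) ((QCoh.toAbFunctor X).map_comp f g).symm n x).symm

theorem mapLin_zero {A B : X.Modules} (n : ℕ) (x : Coh.HH X A n) : mapLin k (0 : A ⟶ B) n x = 0 := by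
  show Sheaf.H.map ((QCoh.toAbFunctor X).map (0 : A ⟶ B)) n x = 0
  rw [Functor.map_zero]
  show ((Sheaf.functorH _ n).map 0).hom x = 0
  rw [Functor.map_zero]
  rfl

theorem mapLin_add {A B : X.Modules} (f g : A ⟶ B) (n : ℕ) (x : Coh.HH X A n) :
    mapLin k (f + g) n x = mapLin k f n x + mapLin k g n x := by
  show Sheaf.H.map ((QCoh.toAbFunctor X).map (f + g)) n x = _
  rw [Functor.map_add, Sheaf.H.map_add_apply]
  rfl

theorem mapLin_sum {A B : X.Modules} {ι : Type*} (s : Finset ι) (f : ι → (A ⟶ B)) (n : ℕ) (x : Coh.HH X A n) :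
    mapLin k (∑ i ∈ s, f i) n x = ∑ i ∈ s, mapLin k (f i) n x := by
  classical
  induction s using Finset.induction_on with
  | empty => rw [Finset.sum_empty, Finset.sum_empty]; exact mapLin_zero k n x
  | insert a s ha ih => rw [Finset.sum_insert ha, Finset.sum_insert ha, mapLin_add, ih]

theorem mapLin_id {A : X.Modules} (n : ℕ) (x : Coh.HH X A n) : mapLin k (𝟙 A) n x = x := by
  show Sheaf.H.map ((QCoh.toAbFunctor X).map (𝟙 A)) n x = x
  rw [CategoryTheory.Functor.map_id, Sheaf.H.map_id_apply]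

/-- A class of an additive functor applied to a finite biproduct splits over the summands. -/
theorem class_eq_sum {I : Type u} [Fintype I] [DecidableEq I] (G : X.Modules ⥤ X.Modules) [G.Additive]
    (T : I → X.Modules) (n : ℕ) (y : Coh.HH X (G.obj (⨁ T)) n) :
    y = ∑ j, mapLin k (G.map (biproduct.ι T j)) n (mapLin k (G.map (biproduct.π T j)) n y) := by
  conv_lhs => rw [← mapLin_id k n y, ← CategoryTheory.Functor.map_id, ← QCoh.biproduct_total' T, G.map_sum, mapLin_sum]
  refine Finset.sum_congr rfl fun j _ => ?_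
  rw [G.map_comp, mapLin_comp]

include k in
theorem subsingleton_of_summands {I : Type u} [Fintype I] [DecidableEq I] (G : X.Modules ⥤ X.Modules) [G.Additive]
    (T : I → X.Modules) (n : ℕ) (h : ∀ j, Subsingleton (Coh.HH X (G.obj (T j)) n)) :
    Subsingleton (Coh.HH X (G.obj (⨁ T)) n) := by
  refine subsingleton_of_forall_eq 0 fun y => ?_
  rw [class_eq_sum k G T n y]
  refine Finset.sum_eq_zero fun j _ => ?_
  rw [(h j).elim (mapLin k (G.map (biproduct.π T j)) n y) 0, map_zero]

include k in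
/-- An epimorphism from finitely many copies of `O`, surjective on global sections. -/
theorem exists_epi_basis {Q : X.Modules} (hQ : Coh.IsCoh Q) (hg : Gen Q) :
    ∃ (N : ℕ) (p : (⨁ fun _ : ULift.{u} (Fin N) => Coh.structureModule X) ⟶ Q),
      Epi p ∧ Function.Surjective (mapLin k p 0) := by
  classical
  haveI := CurveCohLib.finite_HH (k := k) hQ 0
  let b := Module.finBasis k (Coh.HH X Q 0)
  let p : (⨁ fun _ : ULift.{u} (Fin (Module.finrank k (Coh.HH X Q 0))) => Coh.structureModule X) ⟶ Q :=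
    biproduct.desc fun i => CurveSpecial.homOfClass (b i.down)
  have hb : ∀ i, ∃ w, mapLin k p 0 w = b i := fun i => by
    let one : Coh.HH X (Coh.structureModule X) 0 :=
      (Sheaf.H.equiv₀ (Coh.toAb (Coh.structureModule X)) isTerminalTop).symm (H23.Frame.one ⊤)
    refine ⟨mapLin k (biproduct.ι (fun _ : ULift.{u} (Fin (Module.finrank k (Coh.HH X Q 0))) => Coh.structureModule X) ⟨i⟩) 0 one, ?_⟩
    rw [← mapLin_comp, biproduct.ι_desc]
    refine (Sheaf.H.equiv₀ (Coh.toAb Q) isTerminalTop).injective ?_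
    refine (Sheaf.H.equiv₀_naturality isTerminalTop
      ((QCoh.toAbFunctor X).map (CurveSpecial.homOfClass (b i))) one).symm.trans ?_
    refine (congrArg ((CurveSpecial.homOfClass (b i)).app ⊤) (AddEquiv.apply_symm_apply _ _)).trans ?_
    exact CurveSpecial.homOfClass_one (b i)
  refine ⟨_, p, Preadditive.epi_of_cancel_zero _ fun {N} g hgz => hg N g fun s => ?_, fun y => ?_⟩
  · let t : Coh.HH X Q 0 := (Sheaf.H.equiv₀ (Coh.toAb Q) isTerminalTop).symm (s.app ⊤ (H23.Frame.one ⊤))
    have ht : mapLin k g 0 t = 0 := by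
      rw [← b.sum_repr t, map_sum]
      refine Finset.sum_eq_zero fun i _ => ?_
      obtain ⟨w, hw⟩ := hb i
      rw [map_smul, ← hw, ← mapLin_comp, hgz, mapLin_zero, smul_zero]
    refine CurveRR.hom_ext_one ?_
    show g.app ⊤ (s.app ⊤ (H23.Frame.one ⊤)) = 0
    have h1 := Sheaf.H.equiv₀_naturality isTerminalTop ((QCoh.toAbFunctor X).map g) t
    have h2 := congrArg (Sheaf.H.equiv₀ (Coh.toAb N) isTerminalTop) ht
    have h3 : (Sheaf.H.equiv₀ (Coh.toAb Q) isTerminalTop) t = s.app ⊤ (H23.Frame.one ⊤) :=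
      AddEquiv.apply_symm_apply _ _
    refine (congrArg (g.app ⊤) h3.symm).trans ?_
    exact h1.trans (h2.trans (map_zero _))
  · choose w hw using hb
    refine ⟨∑ i, b.repr y i • w i, ?_⟩
    rw [map_sum]
    conv_rhs => rw [← b.sum_repr y]
    exact Finset.sum_congr rfl fun i _ => by rw [map_smul, hw]

include k in
/-- Tensors of sections span the sections of a tensor product. -/
theorem tmul_closure_eq_top (hdim : topologicalKrullDim X ≤ 1)
    (h1 : Subsingleton (Coh.HH X (Coh.structureModule X) 1)) {M L : X.Modules}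
    (hM : FlatMod.IsFinLocFree M) (hMc : Coh.IsCoh M) (hMg : Gen M) (hL : Coh.IsCoh L) (hLg : Gen L)
    (z : Γ(CohB1.tensorMod M L, ⊤)) :
    z ∈ AddSubgroup.closure (Set.range fun ab : Γ(M, ⊤) × Γ(L, ⊤) => InvX.tmul ab.1 ab.2) := by
  classical
  haveI := CurveCohLib.isNoetherian_of_proper (k := k) (X := X)
  have hOX : Coh.IsCoh (Coh.structureModule X) := QCoh.isCoh_structureModule'
  obtain ⟨N, p, hp, hp0⟩ := exists_epi_basis k hL hLg
  obtain ⟨N', p', hp', -⟩ := exists_epi_basis k hMc hMg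
  haveI := hp
  haveI := hp'
  let T : ULift.{u} (Fin N) → X.Modules := fun _ => Coh.structureModule X
  have hB : Coh.IsCoh (⨁ T) := QCoh.isCoh_biproduct T fun _ => hOX
  have hS := CurveSlope.shortExact_kernel_of_epi p
  have hK : Coh.IsCoh (kernel p) := QCoh.isCoh_kernel hB hL p
  haveI hB1 : Subsingleton (Coh.HH X (⨁ T) 1) := subsingleton_of_summands k (𝟭 X.Modules) T 1 fun _ => h1
  haveI hK1 : Subsingleton (Coh.HH X (kernel p) 1) := by
    refine subsingleton_of_forall_eq 0 fun y => ?_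
    obtain ⟨x, rfl⟩ := (CurveCohLib.ker_mapLin_f_succ k hS 0).le
      (LinearMap.mem_ker.2 (Subsingleton.elim (mapLin k (kernel.ι p) 1 y) 0))
    obtain ⟨w, rfl⟩ := hp0 x
    exact LinearMap.mem_ker.1 ((CurveCohLib.ker_deltaLin k hS 0).ge ⟨w, rfl⟩)
  have hMK : Coh.IsCoh ((DCoh.tensorBi.obj M).obj (kernel p)) := CurveTensor.isCoh_tensor hM hK
  haveI hMK1 : Subsingleton (Coh.HH X ((DCoh.tensorBi.obj M).obj (kernel p)) 1) := by
    let G := DCoh.tensorBi.flip.obj (kernel p)
    let T' : ULift.{u} (Fin N') → X.Modules := fun _ => Coh.structureModule X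
    have hGT : Subsingleton (Coh.HH X (G.obj (⨁ T')) 1) := subsingleton_of_summands k G T' 1 fun _ =>
      (CurveCohLib.hhEquiv (k := k) (CurveTensor.structureTensorIso (kernel p)) 1).toEquiv.subsingleton
    haveI : Epi (G.map p') := inferInstance
    haveI : PreservesBiproductsOfShape (ULift.{u} (Fin N')) G := preservesBiproductsOfShape_of_preservesCoproductsOfShape G
    have hq : Coh.IsQCoh (G.obj (⨁ T')) :=
      (QCoh.isQCoh_iff_iso (G.mapBiproduct T')).2 (QCoh.isCoh_biproduct (fun j => G.obj (T' j)) fun _ =>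
        CurveTensor.isCoh_tensor (fun x => let ⟨W, hx, he⟩ := InvEnd.isFinLocFreeOfRank_one (CurveDeg.isInvertible_structureModule (X := X)) x; ⟨W, 1, hx, he⟩) hK).1
    exact subsingleton_h1_of_epi k hdim hq hMK.1 (G.map p') hGT
  have hS' := CurveTensor.shortExact_tensor hM _ _ _ hS
  let y : Coh.HH X ((DCoh.tensorBi.obj M).obj L) 0 :=
    (Sheaf.H.equiv₀ (Coh.toAb ((DCoh.tensorBi.obj M).obj L)) isTerminalTop).symm z
  obtain ⟨w, hw⟩ : ∃ w, mapLin k ((DCoh.tensorBi.obj M).map p) 0 w = y :=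
    PnCoh.Finite.exists_of_deltaLin_eq_zero k hS' 0 (Subsingleton.elim _ _)
  have hz : z = Sheaf.H.equiv₀ (Coh.toAb ((DCoh.tensorBi.obj M).obj L)) isTerminalTop y :=
    (AddEquiv.apply_symm_apply _ _).symm
  rw [hz, ← hw, class_eq_sum k (DCoh.tensorBi.obj M) T 0 w, map_sum, map_sum]
  refine AddSubgroup.sum_mem _ fun j _ => ?_
  rw [← mapLin_comp, ← Functor.map_comp]
  let v := mapLin k ((DCoh.tensorBi.obj M).map (biproduct.π T j)) 0 w
  obtain ⟨a, ha⟩ := exists_tmul_one M
    (Sheaf.H.equiv₀ (Coh.toAb ((DCoh.tensorBi.obj M).obj (Coh.structureModule X))) isTerminalTop v)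
  refine AddSubgroup.subset_closure ⟨(a, (biproduct.ι T j ≫ p).app ⊤ (show Γ(Coh.structureModule X, ⊤) from (1 : Γ(X, ⊤)))), ?_⟩
  refine (app_tmul (biproduct.ι T j ≫ p) M a _).symm.trans ?_
  refine (congrArg (((DCoh.tensorBi.obj M).map (biproduct.ι T j ≫ p)).app ⊤) ha.symm).trans ?_
  exact Sheaf.H.equiv₀_naturality isTerminalTop
    ((QCoh.toAbFunctor X).map ((DCoh.tensorBi.obj M).map (biproduct.ι T j ≫ p))) v

end Groth.Agent.NefCurve
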