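import Groth.Agent.NefCurve.Ample
import Groth.Agent.NefCurve.Embed
import Groth.Agent.Lib.AmpleImmersion
import Groth.Agent.S6578
import Groth.Agent.AmpleX.Extend

/-! On a curve with `H¹(O) = 0` the sections of an ample invertible module embed. -/

noncomputable section

set_option linter.style.haveILetI false
set_option linter.unusedSectionVars false
set_option backward.isDefEq.respectTransparency false
set_option backward.isDefEq.respectTransparency.types false

universe u

open CategoryTheory CategoryTheory.Limits AlgebraicGeometry TopologicalSpace Opposite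
open Groth.Agent.PnCoh.Finite (mapLin)

namespace Groth.Agent.NefCurve

open Groth.Agent Groth.Agent.H23

variable (k : Type u) [Field k] {X : Scheme.{u}} [X.Over (Spec (CommRingCat.of k))]
  [IsProper (X ↘ Spec (CommRingCat.of k))]

omit [X.Over (Spec (CommRingCat.of k))] [IsProper (X ↘ Spec (CommRingCat.of k))] in
theorem exists_mem_locus {L : X.Modules} (hL : PicF.IsInvertible L) {ι : Type*} (s : ι → Γ(L, ⊤))
    (hs : ProjUP.GeneratedBy L s) (x : X) : ∃ i, x ∈ TrivBasic.locus (s i) := by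
  obtain ⟨U, hx, e, he⟩ := InvX.exists_frame hL x
  choose g hg using fun i => he.exists_coord le_rfl (AModX.res L (le_top : U ≤ ⊤) (s i))
  simp only [AModX.res_self] at hg
  by_contra h
  have hg' : ∀ i, X.presheaf.germ U x hx (g i) ∈ IsLocalRing.maximalIdeal (X.presheaf.stalk x) := fun i => by
    refine (IsLocalRing.mem_maximalIdeal _).2 fun hu => h ⟨i, ?_⟩
    have hb : x ∈ X.basicOpen (g i) := (Scheme.mem_basicOpen _ _ x hx).2 hu
    rw [← TrivBasic.locus_eq_basicOpen he (hg i)] at hb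
    exact hb.1
  have hbij := he.germ_bijective hx
  have hm : ∀ z ∈ Submodule.span (X.presheaf.stalk x) (Set.range fun i => (L.presheaf.germ ⊤ x trivial).hom (s i)),
      z ∈ Submodule.map (LinearMap.toSpanSingleton (X.presheaf.stalk x) (L.presheaf.stalk x)
        ((L.presheaf.germ U x hx).hom e)) (IsLocalRing.maximalIdeal (X.presheaf.stalk x)) := by
    intro z hz
    induction hz using Submodule.span_induction with
    | mem w hw =>
      obtain ⟨i, rfl⟩ := hw
      refine ⟨_, hg' i, ?_⟩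
      show X.presheaf.germ U x hx (g i) • (L.presheaf.germ U x hx).hom e = (L.presheaf.germ ⊤ x trivial).hom (s i)
      rw [← InvX.germ_res' (le_top : U ≤ ⊤) hx (s i), hg i]
      exact (QCoh.germ_smul' L hx _ _).symm
    | zero => exact Submodule.zero_mem _
    | add a b _ _ ha hb => exact Submodule.add_mem _ ha hb
    | smul r a _ ha => exact Submodule.smul_mem _ r ha
  obtain ⟨r, hr, hr1⟩ := hm ((L.presheaf.germ U x hx).hom e) ((hs x).ge Submodule.mem_top)
  have : r = 1 := hbij.1 (hr1.trans (one_smul _ _).symm)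
  exact (Ideal.ne_top_iff_one _).1 (IsLocalRing.maximalIdeal.isMaximal _).ne_top (this ▸ hr)

theorem comp_eq_zero_of_basis {Q P : X.Modules} {ι : Type*} [Fintype ι] (b : Module.Basis ι k (Coh.HH X Q 0))
    (g : Q ⟶ P) (hg : ∀ i, CurveSpecial.homOfClass (b i) ≫ g = 0) (s : Coh.structureModule X ⟶ Q) : s ≫ g = 0 := by
  let t : Coh.HH X Q 0 := (Sheaf.H.equiv₀ (Coh.toAb Q) isTerminalTop).symm (s.app ⊤ (H23.Frame.one ⊤))
  have ht : mapLin k g 0 t = 0 := by
    rw [← b.sum_repr t, map_sum]
    refine Finset.sum_eq_zero fun i _ => ?_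
    have h0 : mapLin k g 0 (b i) = 0 := by
      refine (Sheaf.H.equiv₀ (Coh.toAb P) isTerminalTop).injective ?_
      refine (Sheaf.H.equiv₀_naturality isTerminalTop ((QCoh.toAbFunctor X).map g) (b i)).symm.trans ?_
      refine (congrArg (g.app ⊤) (CurveSpecial.homOfClass_one (b i)).symm).trans ?_
      exact (congr(($(hg i)).app ⊤ (H23.Frame.one ⊤))).trans (map_zero _).symm
    rw [map_smul, h0, smul_zero]
  refine CurveRR.hom_ext_one ?_
  show g.app ⊤ (s.app ⊤ (H23.Frame.one ⊤)) = 0
  have h1 := Sheaf.H.equiv₀_naturality isTerminalTop ((QCoh.toAbFunctor X).map g) t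
  have h2 := congrArg (Sheaf.H.equiv₀ (Coh.toAb P) isTerminalTop) ht
  have h3 : (Sheaf.H.equiv₀ (Coh.toAb Q) isTerminalTop) t = s.app ⊤ (H23.Frame.one ⊤) :=
    AddEquiv.apply_symm_apply _ _
  exact (congrArg (g.app ⊤) h3.symm).trans (h1.trans (h2.trans (map_zero _)))

theorem resR_const {U : X.Opens} (c : k) :
    AModX.resR (le_top : U ≤ ⊤)
        (show Γ(X, ⊤) from Coh.resTop X (op ⊤) (Coh.toGlobal (X ↘ Spec (CommRingCat.of k)) c)) =
      ((X ↘ Spec (CommRingCat.of k)).appLE ⊤ U le_top).hom ((Scheme.ΓSpecIso (CommRingCat.of k)).inv c) := by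
  have h : (Coh.resTop X (op ⊤) (Coh.toGlobal (X ↘ Spec (CommRingCat.of k)) c)) =
      (show Γ(X, ⊤) from Coh.toGlobal (X ↘ Spec (CommRingCat.of k)) c) :=
    ConcreteCategory.congr_hom (X.presheaf.map_id _) _
  rw [h]
  rfl

include k in
theorem exists_embedding (hdim : topologicalKrullDim X ≤ 1)
    (h1 : Subsingleton (Coh.HH X (Coh.structureModule X) 1)) {L : X.Modules} (hA : CohB1.IsAmple L) [Nonempty X] :
    ∃ (m : ℕ) (i : X ⟶ CohB1.ProjSpace m k), IsClosedImmersion i ∧
      i ≫ CohB1.ProjSpace.toSpec m k = X ↘ Spec (CommRingCat.of k) ∧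
      Nonempty ((Scheme.Modules.pullback i).obj (Twist.twistProjSpace m k 1) ≅ L) := by
  classical
  haveI := CurveCohLib.isNoetherian_of_proper (k := k) (X := X)
  haveI : X.IsSeparated := ⟨by rw [← terminal.comp_from (X ↘ Spec (CommRingCat.of k))]; infer_instance⟩
  have hLc := CurveDeg.isCoh_of_isInvertible hA.1
  haveI := CurveCohLib.finite_HH (k := k) hLc 0
  let N := Module.finrank k (Coh.HH X L 0)
  let b := Module.finBasis k (Coh.HH X L 0)
  let σ : Fin N → Γ(L, ⊤) := fun l => Sheaf.H.equiv₀ (Coh.toAb L) isTerminalTop (b l)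
  have hσ : ProjUP.GeneratedBy L σ := by
    let p : (∐ fun _ : Fin N => Coh.structureModule X) ⟶ L := Sigma.desc fun l => CurveSpecial.homOfClass (b l)
    haveI : Epi p := Preadditive.epi_of_cancel_zero _ fun {P} g hg =>
      gen_of_isAmple k hdim h1 hA P g (comp_eq_zero_of_basis k b g fun l => by
        rw [show CurveSpecial.homOfClass (b l) = Sigma.ι (fun _ : Fin N => Coh.structureModule X) l ≫ p from
          (Sigma.ι_desc (fun l => CurveSpecial.homOfClass (b l)) l).symm, Category.assoc, hg, comp_zero])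
    have h := S6578.generatedBy_of_epi p
    have e : (fun l => InvX.one (Sigma.ι (fun _ : Fin N => Coh.structureModule X) l ≫ p)) = σ := funext fun l => by
      rw [Sigma.ι_desc]
      exact CurveSpecial.homOfClass_one (b l)
    rwa [e] at h
  obtain ⟨n, hn⟩ : ∃ n, N = n + 1 := by
    obtain ⟨x⟩ := ‹Nonempty X›
    obtain ⟨l, -⟩ := exists_mem_locus hA.1 σ hσ x
    exact ⟨N - 1, by have := l.pos; omega⟩
  let e : Fin (n + 1) ≃ Fin N := finCongr hn.symm
  refine Embed.exists_closedImmersion_of_ratios (X ↘ Spec (CommRingCat.of k)) hA.1 n (fun l => σ (e l))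
    (fun _ => True) (fun l _ => AmpleEmbed.isAffineOpen_genLocus (X ↘ Spec (CommRingCat.of k)) hA _)
    (fun x => ?_) ?_
  · obtain ⟨l, hl⟩ := exists_mem_locus hA.1 σ hσ x
    exact ⟨e.symm l, trivial, by rwa [Equiv.apply_symm_apply]⟩
  intro i _ S hconst hratio
  let U := TrivBasic.locus (σ (e i))
  let el : Γ(L, U) := AModX.res L (le_top : U ≤ ⊤) (σ (e i))
  have hel : InvX.IsFrame el := TrivBasic.isFrame_res_of_le_locus le_rfl
  have hcoord : ∀ (t : Γ(L, ⊤)) (c : Γ(X, U)), AModX.res L le_top t = c • el → c ∈ S := by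
    intro t c hc
    let y : Coh.HH X L 0 := (Sheaf.H.equiv₀ (Coh.toAb L) isTerminalTop).symm t
    choose g hg using fun l => hel.exists_coord le_rfl (AModX.res L (le_top : U ≤ ⊤) (σ l))
    simp only [AModX.res_self] at hg
    have hgS : ∀ l, g l ∈ S := fun l => hratio (e.symm l) (g l) (by simpa [Equiv.apply_symm_apply] using hg l)
    let a : Fin N → Γ(X, ⊤) := fun l =>
      Coh.resTop X (op ⊤) (Coh.toGlobal (X ↘ Spec (CommRingCat.of k)) (b.repr y l))
    have ht : t = ∑ l, a l • σ l := by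
      have h := congrArg (Sheaf.H.equiv₀ (Coh.toAb L) isTerminalTop) (b.sum_repr y)
      rw [map_sum] at h
      refine ((AddEquiv.apply_symm_apply (Sheaf.H.equiv₀ (Coh.toAb L) isTerminalTop) t).symm.trans h.symm).trans ?_
      exact Finset.sum_congr rfl fun l _ => CurveCohLib.h0Equiv_smul L _ _
    have hc' : c = ∑ l, AModX.resR (le_top : U ≤ ⊤) (a l) * g l := by
      refine hel.coord_unique le_rfl ?_
      simp only [AModX.res_self]
      rw [← hc, ht, map_sum, Finset.sum_smul]
      refine Finset.sum_congr rfl fun l _ => ?_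
      rw [AModX.res_smul, hg l, mul_smul]
    rw [hc']
    refine S.sum_mem fun l _ => S.mul_mem ?_ (hgS l)
    rw [resR_const]
    exact hconst _
  have hfun : ∀ a : Γ(X, ⊤), AModX.resR (le_top : U ≤ ⊤) a ∈ S := fun a =>
    hcoord (a • σ (e i)) _ (AModX.res_smul _ a (σ (e i)))
  have hpow : ∀ (n : ℕ) (T : Γ(CohB1.tensorPow L n, ⊤)) (c : Γ(X, U)),
      AModX.res (CohB1.tensorPow L n) le_top T = c • AmpleX.powElt el n → c ∈ S := by
    intro n
    induction n with
    | zero =>
      intro T c hc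
      have h : AModX.resR (le_top : U ≤ ⊤) (show Γ(X, ⊤) from T) = c := hc.trans (mul_one c)
      exact h ▸ hfun _
    | succ n ih =>
      intro T c hc
      have hfr := AmpleX.isFrame_powElt hel (n + 1)
      have key : ∀ T' ∈ AddSubgroup.closure (Set.range fun ab : Γ(CohB1.tensorPow L n, ⊤) × Γ(L, ⊤) => InvX.tmul ab.1 ab.2),
          ∃ c' ∈ S, AModX.res (CohB1.tensorPow L (n + 1)) (le_top : U ≤ ⊤) T' = c' • AmpleX.powElt el (n + 1) := by
        intro T' hT'
        induction hT' using AddSubgroup.closure_induction with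
        | mem w hw =>
          obtain ⟨⟨a, t⟩, rfl⟩ := hw
          obtain ⟨ca, hca⟩ := (AmpleX.isFrame_powElt hel n).exists_coord le_rfl (AModX.res _ (le_top : U ≤ ⊤) a)
          obtain ⟨ct, hct⟩ := hel.exists_coord le_rfl (AModX.res L (le_top : U ≤ ⊤) t)
          rw [AModX.res_self] at hca hct
          refine ⟨ca * ct, S.mul_mem (ih a ca hca) (hcoord t ct hct), ?_⟩
          refine (InvX.res_tmul (le_top : U ≤ ⊤) a t).trans ?_
          rw [hca, hct, InvX.tmul_smul_left, InvX.tmul_smul_right, ← mul_smul]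
          rfl
        | zero => exact ⟨0, S.zero_mem, by rw [map_zero, zero_smul]⟩
        | add u v _ _ hu hv =>
          obtain ⟨cu, h1', h2'⟩ := hu
          obtain ⟨cv, h3', h4'⟩ := hv
          exact ⟨cu + cv, S.add_mem h1' h3', by rw [map_add, h2', h4', add_smul]⟩
        | neg u _ hu =>
          obtain ⟨cu, h1', h2'⟩ := hu
          exact ⟨-cu, S.neg_mem h1', by rw [map_neg, h2', neg_smul]⟩
      obtain ⟨c', hc'S, hc'⟩ := key T (closure_tensorPow k hdim h1 hA n T)
      have : c = c' := hfr.coord_unique le_rfl (by simp only [AModX.res_self]; exact hc.symm.trans hc')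
      exact this ▸ hc'S
  refine top_le_iff.1 fun f _ => ?_
  obtain ⟨n₀, hn₀⟩ := AmpleX.exists_extend hLc.1 hA.1 (InvX.ofSect (σ (e i))) (f • el)
  obtain ⟨T, hT⟩ := hn₀ n₀ le_rfl
  have hone : InvX.one (InvX.ofSect (σ (e i))) = σ (e i) := InvX.one_ofSect _
  rw [hone] at hT
  have hP := InvX.isInvertible_tensorPow hA.1 n₀
  have hmem := tmul_closure_eq_top k hdim h1
    (fun x => let ⟨W, hx, he⟩ := InvEnd.isFinLocFreeOfRank_one hA.1 x; ⟨W, 1, hx, he⟩) hLc
    (gen_of_isAmple k hdim h1 hA) (CurveDeg.isCoh_of_isInvertible hP) (gen_tensorPow k hdim h1 hA n₀) T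
  have key : ∀ T' ∈ AddSubgroup.closure (Set.range fun ab : Γ(L, ⊤) × Γ(CohB1.tensorPow L n₀, ⊤) => InvX.tmul ab.1 ab.2),
      ∃ c' ∈ S, AModX.res (CohB1.tensorMod L (CohB1.tensorPow L n₀)) (le_top : U ≤ ⊤) T' =
        c' • InvX.tmul el (AmpleX.powElt el n₀) := by
    intro T' hT'
    induction hT' using AddSubgroup.closure_induction with
    | mem w hw =>
      obtain ⟨⟨t, a⟩, rfl⟩ := hw
      obtain ⟨ca, hca⟩ := (AmpleX.isFrame_powElt hel n₀).exists_coord le_rfl (AModX.res _ (le_top : U ≤ ⊤) a)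
      obtain ⟨ct, hct⟩ := hel.exists_coord le_rfl (AModX.res L (le_top : U ≤ ⊤) t)
      rw [AModX.res_self] at hca hct
      refine ⟨ct * ca, S.mul_mem (hcoord t ct hct) (hpow n₀ a ca hca), ?_⟩
      refine (InvX.res_tmul (le_top : U ≤ ⊤) t a).trans ?_
      rw [hca, hct, InvX.tmul_smul_left, InvX.tmul_smul_right, ← mul_smul]
    | zero => exact ⟨0, S.zero_mem, by rw [map_zero, zero_smul]⟩
    | add u v _ _ hu hv =>
      obtain ⟨cu, h1', h2'⟩ := hu
      obtain ⟨cv, h3', h4'⟩ := hv
      exact ⟨cu + cv, S.add_mem h1' h3', by rw [map_add, h2', h4', add_smul]⟩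
    | neg u _ hu =>
      obtain ⟨cu, h1', h2'⟩ := hu
      exact ⟨-cu, S.neg_mem h1', by rw [map_neg, h2', neg_smul]⟩
  obtain ⟨c, hcS, hc⟩ := key T hmem
  have heq : c = f := (InvX.isFrame_tmul hel (AmpleX.isFrame_powElt hel n₀)).coord_unique le_rfl (by
    simp only [AModX.res_self]
    refine hc.symm.trans (hT.trans ?_)
    exact InvX.tmul_smul_left f el (AmpleX.powElt el n₀))
  exact heq ▸ hcS

end Groth.Agent.NefCurve
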