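import Groth.Agent.NefCurve.MultKernel
import Groth.Agent.NefCurve.VeryAmple

/-! The Koszul relations generate the twisted kernel of an evaluation map. -/

noncomputable section

set_option linter.style.haveILetI false
set_option linter.unusedSectionVars false
set_option backward.isDefEq.respectTransparency false
set_option backward.isDefEq.respectTransparency.types false

universe u

open CategoryTheory CategoryTheory.Limits AlgebraicGeometry TopologicalSpace Opposite
open Groth.Agent.PnCoh.Finite (mapLin)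

namespace Groth.Agent.NefCurve

open Groth.Agent Groth.Agent.H23

variable {X : Scheme.{u}}

/-- Tensors of two sections of an invertible module commute. -/
theorem tmul_comm {A : X.Modules} (hA : PicF.IsInvertible A) (a b : Γ(A, ⊤)) :
    InvX.tmul a b = InvX.tmul b a := by
  refine AModX.eq_of_locally _ _ fun x hx => ?_
  obtain ⟨U, hxU, e, he⟩ := InvX.exists_frame hA x
  refine ⟨U, le_top, hxU, ?_⟩
  obtain ⟨f, hf⟩ := he.exists_coord le_rfl (AModX.res A (le_top : U ≤ ⊤) a)
  obtain ⟨g, hg⟩ := he.exists_coord le_rfl (AModX.res A (le_top : U ≤ ⊤) b)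
  rw [AModX.res_self] at hf hg
  rw [InvX.res_tmul, InvX.res_tmul, hf, hg, InvX.tmul_smul_left, InvX.tmul_smul_right,
    InvX.tmul_smul_left, InvX.tmul_smul_right, ← mul_smul, ← mul_smul, mul_comm]

section

variable {A : X.Modules} {N : ℕ}

abbrev T0 (X : Scheme.{u}) (N : ℕ) : ULift.{u} (Fin N) → X.Modules := fun _ => Coh.structureModule X

/-- The section `a` placed in the summand `l` of `A ⊗ O^N`. -/
def put (W : X.Opens) (A : X.Modules) (l : ULift.{u} (Fin N)) (a : Γ(A, W)) :
    Γ((DCoh.tensorBi.obj A).obj (⨁ T0 X N), W) :=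
  ((DCoh.tensorBi.obj A).map (biproduct.ι (T0 X N) l)).app W
    (InvX.tmul a (show Γ(Coh.structureModule X, W) from (1 : Γ(X, W))))

theorem res_put {W V : X.Opens} (h : V ≤ W) (l : ULift.{u} (Fin N)) (a : Γ(A, W)) :
    AModX.res _ h (put W A l a) = put V A l (AModX.res A h a) := by
  refine (AModX.app_res ((DCoh.tensorBi.obj A).map (biproduct.ι (T0 X N) l)) h _).symm.trans ?_
  refine congrArg (((DCoh.tensorBi.obj A).map (biproduct.ι (T0 X N) l)).app V) ?_
  refine (InvX.res_tmul h _ _).trans ?_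
  exact congrArg (InvX.tmul (AModX.res A h a)) (map_one (AModX.resR h))

theorem put_smul {W : X.Opens} (l : ULift.{u} (Fin N)) (c : Γ(X, W)) (a : Γ(A, W)) :
    put W A l (c • a) = c • put W A l a := by
  unfold put
  rw [InvX.tmul_smul_left, Scheme.Modules.Hom.app_smul]

theorem put_sum {W : X.Opens} {I : Type*} (s : Finset I) (l : ULift.{u} (Fin N)) (c : I → Γ(X, W)) (e : Γ(A, W)) :
    put W A l ((∑ i ∈ s, c i) • e) = ∑ i ∈ s, c i • put W A l e := by
  rw [put_smul, Finset.sum_smul]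

theorem app_map_put (p : (⨁ T0 X N) ⟶ A) {B : X.Modules} {W : X.Opens} (l : ULift.{u} (Fin N)) (a : Γ(B, W)) :
    ((DCoh.tensorBi.obj B).map p).app W (put W B l a) =
      InvX.tmul a ((biproduct.ι (T0 X N) l ≫ p).app W (show Γ(Coh.structureModule X, W) from (1 : Γ(X, W)))) := by
  refine Eq.trans ?_ (app_tmul_open W (biproduct.ι (T0 X N) l ≫ p) B a _)
  rw [Functor.map_comp]
  rfl

theorem app_sum {P Q : X.Modules} {I : Type*} (s : Finset I) (f : I → (P ⟶ Q)) (W : X.Opens) (w : Γ(P, W)) :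
    (∑ i ∈ s, f i).app W w = ∑ i ∈ s, (f i).app W w := by
  classical
  induction s using Finset.induction_on with
  | empty => rw [Finset.sum_empty, Finset.sum_empty]; rfl
  | insert a s ha ih => rw [Finset.sum_insert ha, Finset.sum_insert ha, ← ih]; rfl

theorem exists_put {W : X.Opens} (w : Γ((DCoh.tensorBi.obj A).obj (⨁ T0 X N), W)) :
    ∃ a : ULift.{u} (Fin N) → Γ(A, W), w = ∑ l, put W A l (a l) := by
  classical
  choose a ha using fun l : ULift.{u} (Fin N) =>
    exists_tmul_one_open W A (((DCoh.tensorBi.obj A).map (biproduct.π (T0 X N) l)).app W w)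
  refine ⟨a, ?_⟩
  have h := congr(($(show (DCoh.tensorBi.obj A).map (∑ l, biproduct.π (T0 X N) l ≫ biproduct.ι (T0 X N) l) = 𝟙 _ by
    rw [QCoh.biproduct_total', CategoryTheory.Functor.map_id])).app W w)
  rw [Functor.map_sum, app_sum] at h
  refine h.symm.trans (Finset.sum_congr rfl fun l _ => ?_)
  show _ = ((DCoh.tensorBi.obj A).map (biproduct.ι (T0 X N) l)).app W _
  rw [← ha l, Functor.map_comp]
  rfl

/-- The Koszul relations generate the twisted kernel. -/
theorem gen_kernel (hA : PicF.IsInvertible A) (hAf : FlatMod.IsFinLocFree A) (p : (⨁ T0 X N) ⟶ A) [Epi p]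
    (hcov : ∀ x, ∃ l, x ∈ TrivBasic.locus ((biproduct.ι (T0 X N) l ≫ p).app ⊤
      (show Γ(Coh.structureModule X, ⊤) from (1 : Γ(X, ⊤))))) :
    Gen ((DCoh.tensorBi.obj A).obj (kernel p)) := by
  classical
  let σ : ULift.{u} (Fin N) → Γ(A, ⊤) := fun l =>
    (biproduct.ι (T0 X N) l ≫ p).app ⊤ (show Γ(Coh.structureModule X, ⊤) from (1 : Γ(X, ⊤)))
  have hσ : ∀ (W : X.Opens) l, (biproduct.ι (T0 X N) l ≫ p).app W
      (show Γ(Coh.structureModule X, W) from (1 : Γ(X, W))) = AModX.res A (le_top : W ≤ ⊤) (σ l) :=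
    fun W l => (congrArg ((biproduct.ι (T0 X N) l ≫ p).app W)
      (show (show Γ(Coh.structureModule X, W) from (1 : Γ(X, W))) = AModX.res (Coh.structureModule X) (le_top : W ≤ ⊤)
        (show Γ(Coh.structureModule X, ⊤) from (1 : Γ(X, ⊤))) from (map_one (AModX.resR _)).symm)).trans
      (AModX.app_res _ _ _)
  let ι' := (DCoh.tensorBi.obj A).map (kernel.ι p)
  let p' := (DCoh.tensorBi.obj A).map p
  have hS := CurveTensor.shortExact_tensor hAf _ _ _ (CurveSlope.shortExact_kernel_of_epi p)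
  haveI : Mono ι' := hS.mono_f
  let w : ULift.{u} (Fin N) → ULift.{u} (Fin N) → Γ((DCoh.tensorBi.obj A).obj (⨁ T0 X N), ⊤) :=
    fun l i => put ⊤ A l (σ i) - put ⊤ A i (σ l)
  have hw : ∀ l i, p'.app ⊤ (w l i) = 0 := fun l i => by
    show p'.app ⊤ (put ⊤ A l (σ i) - put ⊤ A i (σ l)) = 0
    rw [map_sub, app_map_put, app_map_put, sub_eq_zero]
    exact tmul_comm hA (σ i) (σ l)
  intro P g hg
  have hlift : ∀ l i, ∃ v : Γ((DCoh.tensorBi.obj A).obj (kernel p), ⊤), ι'.app ⊤ v = w l i ∧ g.app ⊤ v = 0 := by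
    intro l i
    let φ : Coh.structureModule X ⟶ (DCoh.tensorBi.obj A).obj (⨁ T0 X N) := QCoh.homOfTop (w l i)
    have h1 : ∀ {Q : X.Modules} (t : Γ(Q, ⊤)), (QCoh.homOfTop t).app ⊤ (1 : Γ(X, ⊤)) = t := fun t => by
      rw [QCoh.homOfTop_app, one_smul]
      exact ConcreteCategory.congr_hom (Scheme.Modules.presheaf _ |>.map_id _) t
    have hφ : φ ≫ p' = 0 := CurveRR.hom_ext_one (by
      show p'.app ⊤ (φ.app ⊤ (1 : Γ(X, ⊤))) = 0
      rw [h1, hw])
    obtain ⟨ψ, hψ⟩ := KernelFork.IsLimit.lift' hS.fIsKernel φ hφ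
    refine ⟨ψ.app ⊤ (1 : Γ(X, ⊤)), ?_, ?_⟩
    · exact (congr(($hψ).app ⊤ (1 : Γ(X, ⊤)))).trans (h1 _)
    · exact congr(($(hg ψ)).app ⊤ (1 : Γ(X, ⊤)))
  choose v hv hgv using hlift
  have hι : ∀ W : X.Opens, Function.Injective (ι'.app W) := fun W => QCoh.app_injective ι' W
  refine Scheme.Modules.hom_ext _ _ fun V => ?_
  ext s
  show g.app V s = 0
  refine AModX.eq_of_locally _ _ fun x hx => ?_
  obtain ⟨i, hi⟩ := hcov x
  let W : X.Opens := V ⊓ TrivBasic.locus (σ i)
  refine ⟨W, inf_le_left, ⟨hx, hi⟩, ?_⟩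
  rw [map_zero, ← AModX.app_res]
  let sW := AModX.res _ (inf_le_left : W ≤ V) s
  let e := AModX.res A (le_top : W ≤ ⊤) (σ i)
  have he : InvX.IsFrame e := TrivBasic.isFrame_res_of_le_locus inf_le_right
  obtain ⟨a, ha⟩ := exists_put (ι'.app W sW)
  choose c hc using fun l => he.exists_coord le_rfl (a l)
  choose q hq using fun l => he.exists_coord le_rfl (AModX.res A (le_top : W ≤ ⊤) (σ l))
  simp only [AModX.res_self] at hc hq
  have hzero : p'.app W (ι'.app W sW) = 0 :=
    congr(($(show ι' ≫ p' = 0 by rw [← Functor.map_comp, kernel.condition, Functor.map_zero])).app W sW)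
  have hrel : ∑ l, c l * q l = 0 := by
    refine (InvX.isFrame_tmul he he).coord_unique le_rfl ?_
    simp only [AModX.res_self]
    rw [zero_smul, ← hzero, ha, map_sum, Finset.sum_smul]
    refine Finset.sum_congr rfl fun l _ => ?_
    rw [app_map_put, hσ, hc l, hq l, InvX.tmul_smul_left, InvX.tmul_smul_right, ← mul_smul]
  have key : sW = ∑ l, c l • AModX.res _ (le_top : W ≤ ⊤) (v l i) := by
    refine hι W ?_
    rw [map_sum, ha]
    have h1 : ∀ l, ι'.app W (c l • AModX.res _ (le_top : W ≤ ⊤) (v l i)) =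
        c l • put W A l e - (c l * q l) • put W A i e := fun l => by
      rw [Scheme.Modules.Hom.app_smul, AModX.app_res, hv]
      show c l • AModX.res _ (le_top : W ≤ ⊤) (put ⊤ A l (σ i) - put ⊤ A i (σ l)) = _
      rw [map_sub, res_put, res_put, hq l, put_smul, smul_sub, ← mul_smul]
    rw [Finset.sum_congr rfl fun l _ => h1 l, Finset.sum_sub_distrib, ← Finset.sum_smul, hrel, zero_smul, sub_zero]
    exact Finset.sum_congr rfl fun l _ => by rw [hc l, put_smul]
  show g.app W sW = 0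
  rw [key, map_sum]
  refine Finset.sum_eq_zero fun l _ => ?_
  rw [Scheme.Modules.Hom.app_smul, AModX.app_res, hgv, map_zero, smul_zero]

end

end Groth.Agent.NefCurve
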