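import Groth.Agent.NefCurve.VeryAmple
import Groth.Agent.NefCurve.Koszul

/-! A power of a globally generated ample module is very ample once the section ring is generated below it. -/

noncomputable section

set_option linter.style.haveILetI false
set_option linter.unusedSectionVars false
set_option backward.isDefEq.respectTransparency false
set_option backward.isDefEq.respectTransparency.types false

universe u

open CategoryTheory CategoryTheory.Limits AlgebraicGeometry TopologicalSpace Opposite MonoidalCategory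
open Groth.Agent.PnCoh.Finite (mapLin)

namespace Groth.Agent.NefCurve

open Groth.Agent Groth.Agent.H23

variable (k : Type u) [Field k] {X : Scheme.{u}} [X.Over (Spec (CommRingCat.of k))]
  [IsProper (X ↘ Spec (CommRingCat.of k))]

include k in
theorem exists_basis_cover {A : X.Modules} (hA : PicF.IsInvertible A) (hg : Gen A)
    (b : Module.Basis (Fin (Module.finrank k (Coh.HH X A 0))) k (Coh.HH X A 0)) (x : X) :
    ∃ l, x ∈ TrivBasic.locus (Sheaf.H.equiv₀ (Coh.toAb A) isTerminalTop (b l) : Γ(A, ⊤)) := by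
  let N := Module.finrank k (Coh.HH X A 0)
  let p : (∐ fun _ : Fin N => Coh.structureModule X) ⟶ A := Sigma.desc fun l => CurveSpecial.homOfClass (b l)
  haveI : Epi p := Preadditive.epi_of_cancel_zero _ fun {P} g hgz =>
    hg P g (comp_eq_zero_of_basis k b g fun l => by
      rw [show CurveSpecial.homOfClass (b l) = Sigma.ι (fun _ : Fin N => Coh.structureModule X) l ≫ p from
        (Sigma.ι_desc (fun l => CurveSpecial.homOfClass (b l)) l).symm, Category.assoc, hgz, comp_zero])
  obtain ⟨l, hl⟩ := exists_mem_locus hA _ (S6578.generatedBy_of_epi p) x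
  refine ⟨l, ?_⟩
  rw [Sigma.ι_desc] at hl
  rwa [show InvX.one (CurveSpecial.homOfClass (b l)) =
    (Sheaf.H.equiv₀ (Coh.toAb A) isTerminalTop (b l) : Γ(A, ⊤)) from CurveSpecial.homOfClass_one (b l)] at hl

theorem locus_powElt {A : X.Modules} (hA : PicF.IsInvertible A) (t : Γ(A, ⊤)) {n : ℕ} (hn : 0 < n) :
    TrivBasic.locus (AmpleX.powElt t n) = TrivBasic.locus t := by
  obtain ⟨m, rfl⟩ := Nat.exists_eq_add_one.2 hn
  have h := InvX.genLocus_powHom hA (InvX.ofSect t) m
  show CohB1.genLocus _ (InvX.ofSect (AmpleX.powElt t (m + 1))) = CohB1.genLocus _ (InvX.ofSect t)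
  rw [← h, show AmpleX.powElt t (m + 1) = InvX.one (InvX.powHom (InvX.ofSect t) (m + 1)) by
    rw [AmpleX.one_powHom, InvX.one_ofSect]]
  congr 1
  refine CurveRR.hom_ext_one ?_
  exact InvX.one_ofSect _

include k in
/-- If sections of `A` and of `A^n` span those of `A^(n+1)` for `n ≥ d`, then `A^d` is very ample. -/
theorem exists_embedding_pow {A : X.Modules} (hA : CohB1.IsAmple A) (hg : Gen A) [Nonempty X] {d : ℕ}
    (hd : 0 < d)
    (hmul : ∀ n, d ≤ n → ∀ z : Γ(CohB1.tensorPow A (n + 1), ⊤),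
      z ∈ AddSubgroup.closure (Set.range fun ab : Γ(CohB1.tensorPow A n, ⊤) × Γ(A, ⊤) => InvX.tmul ab.1 ab.2)) :
    ∃ (m : ℕ) (i : X ⟶ CohB1.ProjSpace m k), IsClosedImmersion i ∧
      i ≫ CohB1.ProjSpace.toSpec m k = X ↘ Spec (CommRingCat.of k) ∧
      Nonempty ((Scheme.Modules.pullback i).obj (Twist.twistProjSpace m k 1) ≅ CohB1.tensorPow A d) := by
  classical
  haveI := CurveCohLib.isNoetherian_of_proper (k := k) (X := X)
  haveI : X.IsSeparated := ⟨by rw [← terminal.comp_from (X ↘ Spec (CommRingCat.of k))]; infer_instance⟩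
  obtain ⟨d, rfl⟩ := Nat.exists_eq_add_one.2 hd
  let L := CohB1.tensorPow A (d + 1)
  have hLinv : PicF.IsInvertible L := InvX.isInvertible_tensorPow hA.1 _
  have hLamp : CohB1.IsAmple L := AmpleX.isAmple_tensorPow hA hd
  have hAc := CurveDeg.isCoh_of_isInvertible hA.1
  have hLc := CurveDeg.isCoh_of_isInvertible hLinv
  haveI := CurveCohLib.finite_HH (k := k) hAc 0
  haveI := CurveCohLib.finite_HH (k := k) hLc 0
  let bA := Module.finBasis k (Coh.HH X A 0)
  let bL := Module.finBasis k (Coh.HH X L 0)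
  let κ := Fin (Module.finrank k (Coh.HH X A 0)) ⊕ Fin (Module.finrank k (Coh.HH X L 0))
  let σ : Fin (Module.finrank k (Coh.HH X A 0)) → Γ(A, ⊤) := fun l => Sheaf.H.equiv₀ (Coh.toAb A) isTerminalTop (bA l)
  let s : κ → Γ(L, ⊤) := fun j => j.elim (fun l => AmpleX.powElt (σ l) (d + 1))
    fun l => Sheaf.H.equiv₀ (Coh.toAb L) isTerminalTop (bL l)
  obtain ⟨n, ⟨e⟩⟩ : ∃ n, Nonempty (Fin (n + 1) ≃ κ) := by
    obtain ⟨x⟩ := ‹Nonempty X›
    obtain ⟨l, -⟩ := exists_basis_cover k hA.1 hg bA x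
    haveI : Nonempty κ := ⟨Sum.inl l⟩
    obtain ⟨n, hn⟩ := Nat.exists_eq_add_one.2 (Fintype.card_pos (α := κ))
    exact ⟨n, ⟨(finCongr hn.symm).trans (Fintype.equivFin _).symm⟩⟩
  refine Embed.exists_closedImmersion_of_ratios (X ↘ Spec (CommRingCat.of k)) hLinv n (fun j => s (e j))
    (fun j => ∃ l, e j = Sum.inl l) (fun j _ => AmpleEmbed.isAffineOpen_genLocus (X ↘ Spec (CommRingCat.of k)) hLamp _)
    (fun x => ?_) ?_
  · obtain ⟨l, hl⟩ := exists_basis_cover k hA.1 hg bA x
    refine ⟨e.symm (Sum.inl l), ⟨l, Equiv.apply_symm_apply _ _⟩, ?_⟩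
    rw [Equiv.apply_symm_apply]
    show x ∈ TrivBasic.locus (AmpleX.powElt (σ l) (d + 1))
    rw [locus_powElt hA.1 _ hd]
    exact hl
  rintro j ⟨i, hj⟩ S hconst hratio
  let U := TrivBasic.locus (s (e j))
  have hU : U ≤ TrivBasic.locus (σ i) := by
    show TrivBasic.locus (s (e j)) ≤ _
    rw [hj]
    exact (locus_powElt hA.1 (σ i) hd).le
  let el : Γ(A, U) := AModX.res A (le_top : U ≤ ⊤) (σ i)
  have hel : InvX.IsFrame el := TrivBasic.isFrame_res_of_le_locus hU
  have hpowel : ∀ n, InvX.IsFrame (AmpleX.powElt el n) := AmpleX.isFrame_powElt hel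
  have hsj : AModX.res L (le_top : U ≤ ⊤) (s (e j)) = AmpleX.powElt el (d + 1) := by
    rw [hj]
    exact AmpleX.res_powElt (le_top : U ≤ ⊤) (σ i) (d + 1)
  have hL1 : ∀ (t : Γ(L, ⊤)) (c : Γ(X, U)), AModX.res L le_top t = c • AmpleX.powElt el (d + 1) → c ∈ S := by
    intro t c hc
    let y : Coh.HH X L 0 := (Sheaf.H.equiv₀ (Coh.toAb L) isTerminalTop).symm t
    choose g hg' using fun l => (hpowel (d + 1)).exists_coord le_rfl (AModX.res L (le_top : U ≤ ⊤) (s (Sum.inr l)))
    simp only [AModX.res_self] at hg'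
    have hgS : ∀ l, g l ∈ S := fun l => hratio (e.symm (Sum.inr l)) (g l) (by
      simp only [Equiv.apply_symm_apply]
      exact (hg' l).trans (congrArg (g l • ·) hsj.symm))
    let a : Fin (Module.finrank k (Coh.HH X L 0)) → Γ(X, ⊤) := fun l =>
      Coh.resTop X (op ⊤) (Coh.toGlobal (X ↘ Spec (CommRingCat.of k)) (bL.repr y l))
    have ht : t = ∑ l, a l • s (Sum.inr l) := by
      have h := congrArg (Sheaf.H.equiv₀ (Coh.toAb L) isTerminalTop) (bL.sum_repr y)
      rw [map_sum] at h
      refine ((AddEquiv.apply_symm_apply (Sheaf.H.equiv₀ (Coh.toAb L) isTerminalTop) t).symm.trans h.symm).trans ?_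
      exact Finset.sum_congr rfl fun l _ => CurveCohLib.h0Equiv_smul L _ _
    have hc' : c = ∑ l, AModX.resR (le_top : U ≤ ⊤) (a l) * g l := by
      refine (hpowel (d + 1)).coord_unique le_rfl ?_
      simp only [AModX.res_self]
      rw [← hc, ht, map_sum, Finset.sum_smul]
      refine Finset.sum_congr rfl fun l _ => ?_
      rw [AModX.res_smul, hg' l, mul_smul]
    rw [hc']
    refine S.sum_mem fun l _ => S.mul_mem ?_ (hgS l)
    rw [resR_const]
    exact hconst _
  have hA1 : ∀ (t : Γ(A, ⊤)) (c : Γ(X, U)), AModX.res A le_top t = c • el → c ∈ S := fun t c hc =>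
    hL1 (InvX.tmul (AmpleX.powElt (σ i) d) t) c (by
      refine (InvX.res_tmul (le_top : U ≤ ⊤) (AmpleX.powElt (σ i) d) t).trans ?_
      rw [hc, AmpleX.res_powElt, InvX.tmul_smul_right]
      rfl)
  have hpow : ∀ n, d + 1 ≤ n → ∀ (T : Γ(CohB1.tensorPow A n, ⊤)) (c : Γ(X, U)),
      AModX.res (CohB1.tensorPow A n) le_top T = c • AmpleX.powElt el n → c ∈ S := by
    intro n hn
    induction n, hn using Nat.le_induction with
    | base => exact hL1
    | succ n hn ih =>
      intro T c hc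
      have key : ∀ T' ∈ AddSubgroup.closure (Set.range fun ab : Γ(CohB1.tensorPow A n, ⊤) × Γ(A, ⊤) => InvX.tmul ab.1 ab.2),
          ∃ c' ∈ S, AModX.res (CohB1.tensorPow A (n + 1)) (le_top : U ≤ ⊤) T' = c' • AmpleX.powElt el (n + 1) := by
        intro T' hT'
        induction hT' using AddSubgroup.closure_induction with
        | mem w hw =>
          obtain ⟨⟨a, t⟩, rfl⟩ := hw
          obtain ⟨ca, hca⟩ := (hpowel n).exists_coord le_rfl (AModX.res _ (le_top : U ≤ ⊤) a)
          obtain ⟨ct, hct⟩ := hel.exists_coord le_rfl (AModX.res A (le_top : U ≤ ⊤) t)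
          rw [AModX.res_self] at hca hct
          refine ⟨ca * ct, S.mul_mem (ih a ca hca) (hA1 t ct hct), ?_⟩
          refine (InvX.res_tmul (le_top : U ≤ ⊤) a t).trans ?_
          rw [hca, hct, InvX.tmul_smul_left, InvX.tmul_smul_right, ← mul_smul]
          rfl
        | zero => exact ⟨0, S.zero_mem, by rw [map_zero, zero_smul]⟩
        | add u v _ _ hu hv =>
          obtain ⟨cu, h1', h2'⟩ := hu
          obtain ⟨cv, h3', h4'⟩ := hv
          exact ⟨cu + cv, S.add_mem h1' h3', by rw [map_add, h2', h4', add_smul]⟩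
        | neg u _ hu =>
          obtain ⟨cu, h1', h2'⟩ := hu
          exact ⟨-cu, S.neg_mem h1', by rw [map_neg, h2', neg_smul]⟩
      obtain ⟨c', hc'S, hc'⟩ := key T (hmul n hn T)
      have : c = c' := (hpowel (n + 1)).coord_unique le_rfl (by simp only [AModX.res_self]; exact hc.symm.trans hc')
      exact this ▸ hc'S
  refine top_le_iff.1 fun f _ => ?_
  have hUeq : U = CohB1.genLocus A (InvX.ofSect (σ i)) := by
    show TrivBasic.locus (s (e j)) = _
    rw [hj]
    exact locus_powElt hA.1 (σ i) hd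
  let G := CohB1.genLocus A (InvX.ofSect (σ i))
  have hGU : G ≤ U := hUeq.ge
  obtain ⟨n₀, hn₀⟩ := AmpleX.exists_extend hAc.1 hA.1 (InvX.ofSect (σ i))
    (AModX.resR hGU f • AModX.res A hGU el)
  obtain ⟨T, hT⟩ := hn₀ (n₀ + d + 1) (by omega)
  rw [InvX.one_ofSect] at hT
  let N := n₀ + d + 1
  let T' : Γ(CohB1.tensorPow A (N + 1), ⊤) :=
    (DCoh.shP.map (β_ (DCoh.toP.obj A) (DCoh.toP.obj (CohB1.tensorPow A N))).hom).app ⊤ T
  have hUG : U ≤ G := hUeq.le
  have hTU : AModX.res (CohB1.tensorMod A (CohB1.tensorPow A N)) (le_top : U ≤ ⊤) T =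
      InvX.tmul (f • el) (AmpleX.powElt el N) := by
    have h := congrArg (AModX.res (CohB1.tensorMod A (CohB1.tensorPow A N)) hUG) hT
    rw [AModX.res_res, InvX.res_tmul, AModX.res_smul, AModX.res_res, AModX.res_self, AmpleX.res_powElt,
      AModX.res_res] at h
    rw [h]
    have hf' : AModX.resR hUG (AModX.resR hGU f) = f := by
      show (X.presheaf.map _ ≫ X.presheaf.map _) f = f
      rw [← X.presheaf.map_comp]
      exact ConcreteCategory.congr_hom (X.presheaf.map_id _) f
    rw [hf']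
  refine hpow (N + 1) (by omega) T' f ?_
  refine (AModX.app_res _ (le_top : U ≤ ⊤) T).symm.trans ?_
  rw [hTU, InvX.tmul_smul_left, Scheme.Modules.Hom.app_smul]
  exact congrArg (f • ·) (commIso_app_tmul U A (CohB1.tensorPow A N) el (AmpleX.powElt el N))

end Groth.Agent.NefCurve
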