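import Groth.Agent.NefCurve.Mult

/-! Products of sections from a twisted kernel. -/

noncomputable section

set_option linter.style.haveILetI false
set_option linter.unusedSectionVars false
set_option backward.isDefEq.respectTransparency false
set_option backward.isDefEq.respectTransparency.types false

universe u

open CategoryTheory CategoryTheory.Limits AlgebraicGeometry TopologicalSpace Opposite
open Groth.Agent.PnCoh.Finite (mapLin)

namespace Groth.Agent.NefCurve

open Groth.Agent

variable (k : Type u) [Field k] {X : Scheme.{u}} [X.Over (Spec (CommRingCat.of k))]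
  [IsProper (X ↘ Spec (CommRingCat.of k))]

include k in
/-- Tensors of sections span when the kernel of an evaluation map has no first cohomology after twisting. -/
theorem tmul_closure_of_kernel {M L : X.Modules} (hM : FlatMod.IsFinLocFree M) {N : ℕ}
    (p : (⨁ fun _ : ULift.{u} (Fin N) => Coh.structureModule X) ⟶ L) [Epi p]
    (hMK1 : Subsingleton (Coh.HH X ((DCoh.tensorBi.obj M).obj (kernel p)) 1))
    (z : Γ(CohB1.tensorMod M L, ⊤)) :
    z ∈ AddSubgroup.closure (Set.range fun ab : Γ(M, ⊤) × Γ(L, ⊤) => InvX.tmul ab.1 ab.2) := by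
  classical
  haveI := hMK1
  let T : ULift.{u} (Fin N) → X.Modules := fun _ => Coh.structureModule X
  have hS := CurveSlope.shortExact_kernel_of_epi p
  have hS' := CurveTensor.shortExact_tensor hM _ _ _ hS
  let y : Coh.HH X ((DCoh.tensorBi.obj M).obj L) 0 :=
    (Sheaf.H.equiv₀ (Coh.toAb ((DCoh.tensorBi.obj M).obj L)) isTerminalTop).symm z
  obtain ⟨w, hw⟩ : ∃ w, mapLin k ((DCoh.tensorBi.obj M).map p) 0 w = y :=
    PnCoh.Finite.exists_of_deltaLin_eq_zero k hS' 0 (Subsingleton.elim _ _)
  have hz : z = Sheaf.H.equiv₀ (Coh.toAb ((DCoh.tensorBi.obj M).obj L)) isTerminalTop y :=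
    (AddEquiv.apply_symm_apply _ _).symm
  rw [hz, ← hw, class_eq_sum k (DCoh.tensorBi.obj M) T 0 w, map_sum, map_sum]
  refine AddSubgroup.sum_mem _ fun j _ => ?_
  rw [← mapLin_comp, ← Functor.map_comp]
  let v := mapLin k ((DCoh.tensorBi.obj M).map (biproduct.π T j)) 0 w
  obtain ⟨a, ha⟩ := exists_tmul_one M
    (Sheaf.H.equiv₀ (Coh.toAb ((DCoh.tensorBi.obj M).obj (Coh.structureModule X))) isTerminalTop v)
  refine AddSubgroup.subset_closure ⟨(a, (biproduct.ι T j ≫ p).app ⊤ (show Γ(Coh.structureModule X, ⊤) from (1 : Γ(X, ⊤)))), ?_⟩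
  refine (app_tmul (biproduct.ι T j ≫ p) M a _).symm.trans ?_
  refine (congrArg (((DCoh.tensorBi.obj M).map (biproduct.ι T j ≫ p)).app ⊤) ha.symm).trans ?_
  exact Sheaf.H.equiv₀_naturality isTerminalTop
    ((QCoh.toAbFunctor X).map ((DCoh.tensorBi.obj M).map (biproduct.ι T j ≫ p))) v


end Groth.Agent.NefCurve
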