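import Groth.Agent.NefCurve.Regular
import Groth.Agent.NefCurve.RegPoints
import Groth.Agent.GenusLe.Basic
import Mathlib.RingTheory.HopkinsLevitzki

/-! The square of a nonspecial invertible module with a regular section is generated and nonspecial. -/

noncomputable section

set_option linter.style.haveILetI false
set_option linter.unusedSectionVars false
set_option backward.isDefEq.respectTransparency false
set_option backward.isDefEq.respectTransparency.types false

universe u

open CategoryTheory CategoryTheory.Limits AlgebraicGeometry TopologicalSpace Opposite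

namespace Groth.Agent.NefCurve

open Groth.Agent

variable {X : Scheme.{u}}

theorem krullDimLE_zero_of_isGen {c : X} (hc : DimOne.IsGen c) :
    Ring.KrullDimLE 0 (X.presheaf.stalk c) := by
  refine Ring.krullDimLE_zero_iff.2 fun I hI => ?_
  have h : (X.fromSpecStalk c) ⟨I, hI⟩ = (X.fromSpecStalk c) (IsLocalRing.closedPoint (X.presheaf.stalk c)) := by
    rw [Scheme.fromSpecStalk_closedPoint]
    exact hc _ (Scheme.range_fromSpecStalk.subset (Set.mem_range_self _))
  have h2 := congrArg PrimeSpectrum.asIdeal ((X.fromSpecStalk c).isEmbedding.injective h)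
  exact (show I = _ from h2) ▸ IsLocalRing.maximalIdeal.isMaximal _

/-- A monomorphism out of the structure module into an invertible module is onto at generic points. -/
theorem surjective_stalk_of_isGen [IsLocallyNoetherian X] {L : X.Modules} (hL : PicF.IsInvertible L)
    (s : Coh.structureModule X ⟶ L) [Mono s] {c : X} (hc : DimOne.IsGen c) :
    Function.Surjective ((DerSch.stalkFunctor X c).map s) := by
  haveI := krullDimLE_zero_of_isGen hc
  haveI : IsNoetherianRing (X.presheaf.stalk c) := inferInstance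
  haveI : IsArtinianRing (X.presheaf.stalk c) := isArtinianRing_iff_krullDimLE_zero.2 ‹_›
  obtain ⟨a⟩ := H23.InvStalk.exists_stalk_equiv H23.InvStalk.isInvertible_structureModule c
  obtain ⟨b⟩ := H23.InvStalk.exists_stalk_equiv hL c
  let f : X.presheaf.stalk c →ₗ[X.presheaf.stalk c] X.presheaf.stalk c :=
    b.toLinearMap ∘ₗ ((DerSch.stalkFunctor X c).map s).hom ∘ₗ a.symm.toLinearMap
  have hinj : Function.Injective f :=
    b.injective.comp (((ModuleCat.mono_iff_injective _).1
      ((CurveSlope.shortExact_cokernel_of_mono s).map_of_exact (DerSch.stalkFunctor X c)).mono_f).comp a.symm.injective)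
  have hf : ∀ r, f r = r * f 1 := fun r => by rw [← smul_eq_mul, ← map_smul, smul_eq_mul, mul_one]
  have hu : IsUnit (f 1) := IsArtinianRing.isUnit_of_mem_nonZeroDivisors
    (mem_nonZeroDivisors_iff_right.2 fun z hz => hinj (by rw [hf, hz, map_zero]))
  intro y
  obtain ⟨v, hv⟩ := hu
  refine ⟨a.symm (b y * ↑v⁻¹), b.injective ?_⟩
  refine (hf _).trans ?_
  rw [← hv, mul_assoc, Units.inv_mul, mul_one]

variable (k : Type u) [Field k] [X.Over (Spec (CommRingCat.of k))]
  [IsProper (X ↘ Spec (CommRingCat.of k))]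

include k in
theorem main_of_section (hdim : topologicalKrullDim X ≤ 1) {L : X.Modules} (hL : PicF.IsInvertible L)
    (s : Coh.structureModule X ⟶ L) [Mono s] (h1 : Subsingleton (Coh.HH X L 1)) :
    Subsingleton (Coh.HH X (CohB1.tensorPow L 2) 1) ∧ Gen (CohB1.tensorPow L 2) := by
  haveI := CurveCohLib.isNoetherian_of_proper (k := k) (X := X)
  let M := CohB1.tensorPow L 1
  let P := CohB1.tensorPow L 2
  have hM : PicF.IsInvertible M := InvX.isInvertible_tensorPow hL 1
  have hP : PicF.IsInvertible P := InvX.isInvertible_tensorPow hL 2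
  have hMf : FlatMod.IsFinLocFree M := fun y =>
    let ⟨W, hy, he⟩ := InvEnd.isFinLocFreeOfRank_one hM y; ⟨W, 1, hy, he⟩
  have hOX : Coh.IsCoh (Coh.structureModule X) := QCoh.isCoh_structureModule'
  have hS₀ : Coh.IsCoh ((DCoh.tensorBi.obj M).obj (Coh.structureModule X)) := CurveTensor.isCoh_tensor hMf hOX
  let s' : (DCoh.tensorBi.obj M).obj (Coh.structureModule X) ⟶ P := (DCoh.tensorBi.obj M).map s
  haveI : Mono s' :=
    (CurveTensor.shortExact_tensor hMf _ _ _ (CurveSlope.shortExact_cokernel_of_mono s)).mono_f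
  have h1' : Subsingleton (Coh.HH X ((DCoh.tensorBi.obj M).obj (Coh.structureModule X)) 1) :=
    ((CurveCohLib.hhEquiv (k := k) (KFlatLib.tensorUnitIso M) 1).trans
      (CurveCohLib.hhEquiv (k := k) (CurveTensor.structureTensorIso L) 1)).toEquiv.subsingleton
  have hPc : Coh.IsCoh P := CurveDeg.isCoh_of_isInvertible hP
  have hC : Coh.IsCoh (cokernel s') := QCoh.isCoh_cokernel hS₀.1 hPc s'
  have hS := CurveSlope.shortExact_cokernel_of_mono s'
  have hex : ∀ (x : X) (w : (DerSch.stalkFunctor X x).obj P),
      (DerSch.stalkFunctor X x).map (cokernel.π s') w = 0 →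
        ∃ v, (DerSch.stalkFunctor X x).map s' v = w := fun x w hw => by
    obtain ⟨v, hv⟩ := (ShortComplex.moduleCat_exact_iff _).1 (hS.map_of_exact (DerSch.stalkFunctor X x)).exact w hw
    exact ⟨v, hv⟩
  have hss : ∀ x, Function.Surjective ((DerSch.stalkFunctor X x).map s') ↔
      Function.Surjective ((DerSch.stalkFunctor X x).map s) := fun x => by
    obtain ⟨e⟩ := H23.InvStalk.exists_stalk_equiv hM x
    exact H23.InvStalk.stalk_tensor_map_surjective_iff s x e
  have hsupp : ∀ x ∈ CohB1.support (cokernel s'), ¬ Function.Surjective ((DerSch.stalkFunctor X x).map s') := by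
    intro x hx hsur
    refine hx (subsingleton_of_forall_eq 0 fun q => ?_)
    obtain ⟨w, rfl⟩ := (ModuleCat.epi_iff_surjective ((DerSch.stalkFunctor X x).map (cokernel.π s'))).1
      inferInstance q
    obtain ⟨v, rfl⟩ := hsur w
    exact (congr(($((DerSch.stalkFunctor X x).map_comp s' (cokernel.π s'))).hom v)).symm.trans
      (by rw [cokernel.condition, Functor.map_zero]; rfl)
  have hng : ∀ x ∈ CohB1.support (cokernel s'), ¬ DimOne.IsGen x := fun x hx hg =>
    hsupp x hx ((hss x).2 (surjective_stalk_of_isGen hL s hg))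
  have hcl : ∀ x ∈ CohB1.support (cokernel s'), IsClosed ({x} : Set X) := fun x hx =>
    DimOne.isClosed_singleton hdim (hng x hx)
  refine ⟨?_, fun N g hg => Synt29.ConormalExact.hom_ext_stalk _ _ fun x m => ?_⟩
  · have hfin := DimOne.finite_of_forall_not_isGen hdim (QCoh.isClosed_support_of_isFT hC.1 hC.2) hng
    have hsur := GenusLe.surjective_mapLin_one_of_cokernel k hdim hS₀.1 hPc.1 s' hfin hcl
      fun x hx => not_not.1 hx
    exact hsur.subsingleton
  rw [Functor.map_zero]
  show (DerSch.stalkFunctor X x).map g m = 0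
  -- `g` kills the germs of global sections
  have hgl : ∀ t : Γ(P, ⊤), (DerSch.stalkFunctor X x).map g (P.presheaf.germ ⊤ x trivial t) = 0 := fun t => by
    refine (DerSch.stalkFunctor_map_germ x g ⊤ trivial t).trans ?_
    have h := congr(($(hg (QCoh.homOfTop t))).app ⊤ (1 : Γ(X, ⊤)))
    have h' : g.app ⊤ ((QCoh.homOfTop t).app ⊤ (1 : Γ(X, ⊤))) = 0 := h
    rw [QCoh.homOfTop_app, one_smul,
      show P.presheaf.map (homOfLE (le_top (a := (⊤ : X.Opens)))).op t = t from
        ConcreteCategory.congr_hom (P.presheaf.map_id _) t] at h'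
    rw [h', map_zero]
  by_cases hx : Function.Surjective ((DerSch.stalkFunctor X x).map s)
  · obtain ⟨w, rfl⟩ := H23.InvStalk.powSec_surjective hL s x hx 2 m
    exact (congr(($((DerSch.stalkFunctor X x).map_comp (H23.InvStalk.powSec s 2) g)).hom w)).symm.trans
      (by rw [hg, Functor.map_zero]; rfl)
  -- at a zero of `s`
  obtain ⟨a⟩ := H23.InvStalk.exists_stalk_equiv hP x
  have hb : ∀ v, a ((DerSch.stalkFunctor X x).map s' v) ∈ IsLocalRing.maximalIdeal (X.presheaf.stalk x) := by
    intro v
    by_contra hu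
    obtain ⟨r, hr⟩ := not_not.1 fun h => hu ((IsLocalRing.mem_maximalIdeal _).2 h)
    refine hx ((hss x).1 fun w => ⟨(a w * ↑r⁻¹) • v, a.injective ?_⟩)
    rw [map_smul, map_smul, smul_eq_mul, ← hr, mul_assoc, Units.inv_mul, mul_one]
  have hmem : x ∈ CohB1.support (cokernel s') := fun h => hx ((hss x).1 fun w =>
    hex x w (h.elim _ _))
  have key : ∀ m : (DerSch.stalkFunctor X x).obj P, ∃ c ∈ IsLocalRing.maximalIdeal (X.presheaf.stalk x),
      (DerSch.stalkFunctor X x).map g m = c • (DerSch.stalkFunctor X x).map g (a.symm 1) := by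
    intro m
    obtain ⟨σ, hσ, -⟩ := CurveCohLib.exists_section_single hC hcl hmem
      ((DerSch.stalkFunctor X x).map (cokernel.π s') m)
    obtain ⟨t, ht⟩ := QCoh.app_top_surjective_of_HH_one hS h1' σ
    let gt : (DerSch.stalkFunctor X x).obj P := P.presheaf.germ ⊤ x trivial t
    obtain ⟨v, hv⟩ := hex x (m - gt) (by
      rw [map_sub, sub_eq_zero]
      refine hσ.symm.trans (Eq.trans ?_ (DerSch.stalkFunctor_map_germ x (cokernel.π s') ⊤ trivial t).symm)
      rw [← ht])
    refine ⟨_, hb v, ?_⟩
    have hdec : m - gt = a ((DerSch.stalkFunctor X x).map s' v) • a.symm 1 :=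
      a.injective (by rw [map_smul, LinearEquiv.apply_symm_apply, smul_eq_mul, mul_one, hv])
    rw [← map_smul, ← hdec, map_sub]
    exact (sub_eq_self.2 (hgl t)).symm
  obtain ⟨c₀, hc₀, he⟩ := key (a.symm 1)
  have he0 : (DerSch.stalkFunctor X x).map g (a.symm 1) = 0 := by
    obtain ⟨r, hr⟩ := IsLocalRing.isUnit_one_sub_self_of_mem_nonunits _ hc₀
    have : (↑r : X.presheaf.stalk x) • (DerSch.stalkFunctor X x).map g (a.symm 1) = 0 := by
      rw [hr, sub_smul, one_smul, ← he, sub_self]
    calc (DerSch.stalkFunctor X x).map g (a.symm 1)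
        = (↑r⁻¹ : X.presheaf.stalk x) • (↑r : X.presheaf.stalk x) • (DerSch.stalkFunctor X x).map g (a.symm 1) := by
          rw [smul_smul, Units.inv_mul, one_smul]
      _ = 0 := by rw [this, smul_zero]
  obtain ⟨c, -, hc⟩ := key m
  rw [hc, he0, smul_zero]

end Groth.Agent.NefCurve
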